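import Groth.Agent.Lib.Helper73.DimFormula.CMFlat.CMOpenFP
import Groth.Agent.Lib.Helper77.RegularCM

/-!
# The Cohen–Macaulay locus of a morphism locally of finite presentation (helper73)

* `isCMAt_of_flat_quasiFinite_toAffineSpace`: if an open neighbourhood `U` of `x` admits a
  locally quasi-finite `Y`-morphism to an affine space over `Y` which is flat at `x`, then
  `f` is Cohen–Macaulay at `x`.
* `exists_flat_locallyQuasiFinite_toAffineSpace_of_isCMAt_fp`: conversely.
* `isOpen_setOf_isCMAt_fp`: the Cohen–Macaulay locus is open.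
-/

set_option autoImplicit false
open CategoryTheory AlgebraicGeometry TopologicalSpace Topology Limits
universe u

namespace Groth.Agent.Lib.Helper73

open Groth.Agent.Lib.Helper67.FiberStalk Groth.Agent.Lib.Helper67.FiberTower

/-- A locally quasi-finite morphism to affine space, flat at a point, makes the structure morphism
Cohen–Macaulay at that point. -/
theorem isCMAt_of_flat_quasiFinite_toAffineSpace {X Y : Scheme.{u}} (f : X ⟶ Y)
    [LocallyOfFiniteType f] (d : ℕ) (U : X.Opens)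
    (g : (U : Scheme.{u}) ⟶ 𝔸(ULift.{u} (Fin d); Y))
    (hg : g ≫ (𝔸(ULift.{u} (Fin d); Y) ↘ Y) = U.ι ≫ f) [LocallyQuasiFinite g]
    (u : (U : Scheme.{u})) (hfl : (g.stalkMap u).hom.Flat) : MoreMor.IsCMAt f (U.ι u) := by
  have hgft : LocallyOfFiniteType g := by
    have : LocallyOfFiniteType (g ≫ (𝔸(ULift.{u} (Fin d); Y) ↘ Y)) := by rw [hg]; infer_instance
    exact locallyOfFiniteType_of_comp g (𝔸(ULift.{u} (Fin d); Y) ↘ Y)
  set π := (𝔸(ULift.{u} (Fin d); Y) ↘ Y) with hπ
  -- `g` is CM at `u`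
  have h1 : MoreMor.IsCMAt g u := by
    refine ⟨hfl, ?_⟩
    have hN : IsLocallyNoetherian (g.fiber (g u)) :=
      LocallyOfFiniteType.isLocallyNoetherian (g.fiberToSpecResidueField (g u))
    have h0 := (ringKrullDim_fiber_stalk_eq_zero_of_quasiFiniteAt g u (g.quasiFiniteAt u)).1
    exact Groth.Agent.Lib.Helper77.FlatDepth.isCM_of_dim_zero _ h0
  -- `π` is CM at `g u`
  have h2 : MoreMor.IsCMAt π (g u) := by
    refine ⟨Flat.stalkMap π (g u), ?_⟩
    haveI := isRegularLocalRing_affineSpace_fiber_stalk (ULift.{u} (Fin d)) Y (g u)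
    exact Groth.Agent.Lib.Helper77.RegularCM.isCohenMacaulayLocalRing _
  have hN : IsNoetherianRing (Q (g ≫ π) u) :=
    isNoetherianRing_Q (g ≫ π) u
      (LocallyOfFiniteType.isLocallyNoetherian ((g ≫ π).fiberToSpecResidueField ((g ≫ π) u)))
  have h3 : MoreMor.IsCMAt (g ≫ π) u := isCMAt_comp g π u hN h1 h2
  rw [hg] at h3
  have hNf : IsNoetherianRing (Q f (U.ι u)) :=
    isNoetherianRing_Q f (U.ι u)
      (LocallyOfFiniteType.isLocallyNoetherian (f.fiberToSpecResidueField (f (U.ι u))))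
  exact (isCMAt_of_comp U.ι f u hNf h3 (isCMAt_of_isOpenImmersion U.ι u).1).2

/-- Around a Cohen–Macaulay point of a morphism locally of finite presentation there is a flat,
locally quasi-finite morphism to the affine space of dimension the fibre dimension. -/
theorem exists_flat_locallyQuasiFinite_toAffineSpace_of_isCMAt_fp {X Y : Scheme.{u}} (f : X ⟶ Y)
    [LocallyOfFinitePresentation f] (x : X) (hCM : MoreMor.IsCMAt f x) (d : ℕ)
    (hd : FlatMor.fibreDimAt f x = (d : WithBot ℕ∞)) :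
    ∃ (U : X.Opens) (g : (U : Scheme.{u}) ⟶ 𝔸(ULift.{u} (Fin d); Y)), x ∈ U ∧
      g ≫ (𝔸(ULift.{u} (Fin d); Y) ↘ Y) = U.ι ≫ f ∧ Flat g ∧ LocallyQuasiFinite g := by
  obtain ⟨U, g, hxU, -, hg, hlqf⟩ :=
    exists_locallyQuasiFinite_toAffineSpace f x d hd.le ⊤ trivial
  have hfl := flat_stalkMap_toAffineSpace_of_isCMAt_fp f x hCM d hd U hxU g hg
  set π := (𝔸(ULift.{u} (Fin d); Y) ↘ Y) with hπ
  haveI : LocallyOfFinitePresentation (g ≫ π) := by rw [hg]; infer_instance
  haveI hglfp : LocallyOfFinitePresentation g := Groth.Agent.Lib.Helper54.CPF.lfp_of_comp g π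
  have hopen := Groth.Agent.Lib.Helper55.FL.isOpen_stalkMap_flat g
  let Fl : (U : Scheme.{u}).Opens := ⟨_, hopen⟩
  have hle : U.ι ''ᵁ Fl ≤ U := by
    rintro _ ⟨u, -, rfl⟩
    exact u.2
  refine ⟨U.ι ''ᵁ Fl, X.homOfLE hle ≫ g, ⟨⟨x, hxU⟩, hfl, rfl⟩, ?_, ?_, inferInstance⟩
  · rw [Category.assoc, hg, ← Category.assoc, Scheme.homOfLE_ι]
  · rw [Flat.iff_flat_stalkMap]
    intro w
    rw [Scheme.Hom.stalkMap_comp]
    have hw : X.homOfLE hle w ∈ Fl := by
      obtain ⟨u, hu, hu'⟩ := w.2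
      have : X.homOfLE hle w = u := by
        apply U.ι.isOpenEmbedding.injective
        rw [← Scheme.Hom.comp_apply, Scheme.homOfLE_ι]
        exact hu'.symm
      rw [this]
      exact hu
    have h1 : (g.stalkMap (X.homOfLE hle w)).hom.Flat := hw
    have h2 : ((X.homOfLE hle).stalkMap w).hom.Flat :=
      RingHom.Flat.of_bijective (ConcreteCategory.bijective_of_isIso ((X.homOfLE hle).stalkMap w))
    exact RingHom.Flat.comp h1 h2

/-- The Cohen–Macaulay locus of a morphism locally of finite presentation is open. -/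
theorem isOpen_setOf_isCMAt_fp {X Y : Scheme.{u}} (f : X ⟶ Y) [LocallyOfFinitePresentation f] :
    IsOpen {x : X | MoreMor.IsCMAt f x} := by
  rw [isOpen_iff_mem_nhds]
  intro x hx
  obtain ⟨d, hd⟩ := exists_fibreDimAt_eq_natCast f x
  obtain ⟨U, g, hxU, hg, hgfl, hglqf⟩ :=
    exists_flat_locallyQuasiFinite_toAffineSpace_of_isCMAt_fp f x hx d hd
  refine Filter.mem_of_superset (U.2.mem_nhds hxU) ?_
  intro w hw
  exact isCMAt_of_flat_quasiFinite_toAffineSpace f d U g hg ⟨w, hw⟩ (Flat.stalkMap g ⟨w, hw⟩)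

end Groth.Agent.Lib.Helper73
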