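import Groth.Agent.Lib.Helper73.DimFormula.CMFlat.CMFlatFP
import Groth.Agent.Lib.Helper73.DimFormula.FiberDimAdd

/-!
# Local constancy of the fibre dimension near Cohen–Macaulay points, finitely presented case

* `isCMAt_of_maximal_fiber`: flat at a point maximal in its fibre ⇒ Cohen–Macaulay there.
* `exists_open_fibreDimAt_eq_of_isCMAt_fp`: for `f` locally of finite presentation and
  Cohen–Macaulay at `x`, the fibre dimension is constant on an open neighbourhood of `x`.
-/

set_option autoImplicit false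
universe u
open AlgebraicGeometry CategoryTheory Limits TopologicalSpace

namespace Groth.Agent.Lib.Helper73

/-- A morphism locally of finite type, flat at a point `x` which has no proper generization in
its fibre, is Cohen–Macaulay at `x`. -/
theorem isCMAt_of_maximal_fiber {X S : Scheme.{u}} (f : X ⟶ S)
    [LocallyOfFiniteType f] (x : X) (hfl : (f.stalkMap x).hom.Flat)
    (hmax : ∀ t : X, t ⤳ x → f t = f x → t = x) : MoreMor.IsCMAt f x := by
  refine ⟨hfl, ?_⟩
  have hN : IsLocallyNoetherian (f.fiber (f x)) :=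
    LocallyOfFiniteType.isLocallyNoetherian (f.fiberToSpecResidueField (f x))
  have h0 : ringKrullDim ((f.fiber (f x)).presheaf.stalk (f.asFiber x)) = 0 := by
    rw [ringKrullDim_fiber_stalk_eq_krullDim]
    haveI : Nonempty ↥{t : X | t ⤳ x ∧ f t = f x} := ⟨⟨x, specializes_rfl, rfl⟩⟩
    haveI : Subsingleton ↥{t : X | t ⤳ x ∧ f t = f x} :=
      ⟨fun a b => Subtype.ext ((hmax a.1 a.2.1 a.2.2).trans (hmax b.1 b.2.1 b.2.2).symm)⟩
    exact Order.krullDim_eq_zero
  exact Groth.Agent.Lib.Helper77.FlatDepth.isCM_of_dim_zero _ h0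

/-- Near a Cohen–Macaulay point of a morphism locally of finite presentation the fibre dimension is
constant. -/
theorem exists_open_fibreDimAt_eq_of_isCMAt_fp {X Y : Scheme.{u}} (f : X ⟶ Y)
    [LocallyOfFinitePresentation f] (x : X) (hCM : MoreMor.IsCMAt f x) :
    ∃ W : X.Opens, x ∈ W ∧ ∀ w ∈ W, FlatMor.fibreDimAt f w = FlatMor.fibreDimAt f x := by
  obtain ⟨d, hd⟩ := exists_fibreDimAt_eq_natCast f x
  obtain ⟨U, g, hxU, -, hg, hlqf⟩ :=
    exists_locallyQuasiFinite_toAffineSpace f x d hd.le ⊤ trivial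
  have hfl := flat_stalkMap_toAffineSpace_of_isCMAt_fp f x hCM d hd U hxU g hg
  set π := (𝔸(ULift.{u} (Fin d); Y) ↘ Y) with hπ
  haveI : LocallyOfFinitePresentation (g ≫ π) := by rw [hg]; infer_instance
  haveI hglfp : LocallyOfFinitePresentation g := Groth.Agent.Lib.Helper54.CPF.lfp_of_comp g π
  have hopen := Groth.Agent.Lib.Helper55.FL.isOpen_stalkMap_flat g
  let Fl : (U : Scheme.{u}).Opens := ⟨_, hopen⟩
  refine ⟨U.ι ''ᵁ Fl, ⟨⟨x, hxU⟩, hfl, rfl⟩, ?_⟩
  rintro _ ⟨u, hu, rfl⟩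
  have huf : (g.stalkMap u).hom.Flat := hu
  show FlatMor.fibreDimAt f (U.ι u) = FlatMor.fibreDimAt f x
  rw [hd, ← fibreDimAt_eq_of_isOpenImmersion_square U.ι (𝟙 Y) (U.ι ≫ f) f (by simp) u]
  have h1 : FlatMor.fibreDimAt (U.ι ≫ f) u = FlatMor.fibreDimAt (g ≫ π) u := by rw [hg]
  rw [h1, fibreDimAt_comp_eq_add g π u huf]
  have hqf := ringKrullDim_fiber_stalk_eq_zero_of_quasiFiniteAt g u (g.quasiFiniteAt u)
  have hπd := fibreDimAt_affineSpace (ULift.{u} (Fin d)) Y (g u)
  rw [natCard_ulift_fin] at hπd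
  rw [hπd, fibreDimAt_eq, hqf.1, hqf.2]
  simp

end Groth.Agent.Lib.Helper73
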