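import Groth.Agent.Lib.Helper78.ConsNoeth
import Groth.Agent.Lib.Helper78.ConsPair
import Groth.Agent.Lib.Helper55.GR.Scheme
import Groth.Agent.Lib.Helper21.IntegralSub
import Groth.Agent.Lib.Helper54.CPFScheme

/-!
# Local constructibility of loci defined fibrewise (helper73; EGA IV 9.9-style template)

Let `P f x` be a property of a point `x` of the source of a morphism `f`, such that

* `P` is invariant under arbitrary base change of morphisms locally of finite type,
* `P` is insensitive to open immersions on the source,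
* for `f` flat and locally of finite presentation the locus of `P` is open.

Then for every `f` locally of finite presentation the locus of `P` is locally constructible
(`isLocallyConstructible_of_fibrewise`).
-/

set_option autoImplicit false
universe u
open AlgebraicGeometry CategoryTheory CategoryTheory.Limits Topology

namespace Groth.Agent.Lib.Helper73

/-- The hypotheses on a fibrewise pointwise property. -/
structure FibrewiseProp (P : ∀ ⦃X S : Scheme.{u}⦄, (X ⟶ S) → X → Prop) : Prop where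
  baseChange : ∀ ⦃X Y X' Y' : Scheme.{u}⦄ (f : X ⟶ Y) (f' : X' ⟶ Y') (g' : X' ⟶ X) (g : Y' ⟶ Y),
    IsPullback g' f' f g → LocallyOfFiniteType f → ∀ x' : X', (P f' x' ↔ P f (g' x'))
  openImmersion : ∀ ⦃U X S : Scheme.{u}⦄ (j : U ⟶ X) (f : X ⟶ S), IsOpenImmersion j →
    LocallyOfFiniteType f → ∀ u : U, (P (j ≫ f) u ↔ P f (j u))
  isOpen : ∀ ⦃X S : Scheme.{u}⦄ (f : X ⟶ S), Flat f → LocallyOfFinitePresentation f →
    IsOpen {x : X | P f x}

variable {P : ∀ ⦃X S : Scheme.{u}⦄, (X ⟶ S) → X → Prop}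

/-- A fibrewise property is insensitive to a monomorphism on the target. -/
theorem FibrewiseProp.comp_mono_iff (hP : FibrewiseProp P) {X Y Z : Scheme.{u}} (f : X ⟶ Y)
    (i : Y ⟶ Z) [Mono i] [LocallyOfFiniteType (f ≫ i)] (x : X) : P f x ↔ P (f ≫ i) x := by
  have hc : IsPullback (𝟙 X) f (f ≫ i) i := by
    refine ⟨⟨by rw [Category.id_comp]⟩, ⟨PullbackCone.IsLimit.mk _ (fun s => s.fst) ?_ ?_ ?_⟩⟩
    · intro s; exact Category.comp_id _
    · intro s
      rw [← cancel_mono i, Category.assoc]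
      exact s.condition
    · intro s m h1 _
      rw [← h1]; exact (Category.comp_id _).symm
  exact hP.baseChange _ _ _ _ hc inferInstance x

/-- Noetherian case: the locus of a fibrewise property is constructible. -/
theorem FibrewiseProp.isConstructible_noeth (hP : FibrewiseProp P) {X₀ S₀ : Scheme.{u}}
    [IsNoetherian S₀] (u : X₀ ⟶ S₀) [LocallyOfFiniteType u] [QuasiCompact u] :
    IsConstructible {x : X₀ | P u x} := by
  haveI : IsNoetherian X₀ := by
    have h1 : IsLocallyNoetherian X₀ := LocallyOfFiniteType.isLocallyNoetherian u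
    have h2 : CompactSpace X₀ := QuasiCompact.compactSpace_of_compactSpace u
    exact { }
  apply Groth.Agent.Lib.Helper78.ConsNoeth.isConstructible_of_forall_integral
  intro Z i _ _ _
  set η := genericPoint Z with hη
  set σ := u (i η) with hσ
  obtain ⟨T, j, hj, hT, hr⟩ :=
    Groth.Agent.Lib.Helper21.IntegralSub.exists_integral_closedImmersion (closure {σ})
      isClosed_closure isIrreducible_singleton.closure
  set p₁ := pullback.fst u j with hp₁
  set p₂ := pullback.snd u j with hp₂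
  haveI : LocallyOfFiniteType p₂ := by rw [hp₂]; infer_instance
  haveI : QuasiCompact p₂ := by rw [hp₂]; infer_instance
  obtain ⟨T', hT'dense, hfl, hlfp⟩ := Groth.Agent.Lib.Helper55.GR.generic_flatness_reduced p₂
  have hopen : IsOpen {x' : ↥(p₂ ⁻¹ᵁ T') | P (p₂ ∣_ T') x'} := hP.isOpen (p₂ ∣_ T') hfl hlfp
  set W'' : Set ↥(pullback u j) :=
    (p₂ ⁻¹ᵁ T').ι '' {x' : ↥(p₂ ⁻¹ᵁ T') | P (p₂ ∣_ T') x'} with hW''
  have hW''open : IsOpen W'' := (p₂ ⁻¹ᵁ T').ι.isOpenEmbedding.isOpenMap _ hopen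
  have hsq1 : IsPullback (p₂ ⁻¹ᵁ T').ι (p₂ ∣_ T') p₂ T'.ι := (isPullback_morphismRestrict p₂ T').flip
  have hsq2 : IsPullback p₁ p₂ u j := IsPullback.of_hasPullback u j
  have hW''mem : ∀ x'' : ↥(pullback u j), x'' ∈ W'' ↔ p₂ x'' ∈ T' ∧ P u (p₁ x'') := by
    intro x''
    constructor
    · rintro ⟨x', hx', rfl⟩
      refine ⟨x'.2, ?_⟩
      rw [← hP.baseChange _ _ _ _ hsq2 inferInstance, ← hP.baseChange _ _ _ _ hsq1 inferInstance]
      exact hx'
    · rintro ⟨h1, h2⟩
      refine ⟨⟨x'', h1⟩, ?_, rfl⟩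
      exact (hP.baseChange _ _ _ _ hsq1 inferInstance ⟨x'', h1⟩).mpr
        ((hP.baseChange _ _ _ _ hsq2 inferInstance x'').mpr h2)
  obtain ⟨O, hO, hOT'⟩ := Groth.Agent.Lib.Helper78.ConsNoeth.exists_open_preimage_eq j T'.2
  obtain ⟨O₂, hO₂, hO₂W⟩ := Groth.Agent.Lib.Helper78.ConsNoeth.exists_open_preimage_eq p₁ hW''open
  have hmemT' : ∀ τ : T, τ ∈ T' ↔ j τ ∈ O := fun τ => by
    have : τ ∈ j.base ⁻¹' O ↔ τ ∈ (T' : Set T) := by rw [hOT']; exact Iff.rfl
    exact this.symm
  set V₀ : Set Z := (i ≫ u) ⁻¹' O with hV₀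
  have hV₀open : IsOpen V₀ := hO.preimage (i ≫ u).continuous
  have hηV₀ : η ∈ V₀ := by
    obtain ⟨τ, hτ⟩ : (T' : Set T).Nonempty := hT'dense.nonempty
    have h1 : j τ ∈ closure {σ} := by rw [← hr]; exact ⟨τ, rfl⟩
    have h2 : σ ⤳ j τ := specializes_iff_mem_closure.mpr h1
    have h3 : σ ∈ O := h2.mem_open hO ((hmemT' τ).mp hτ)
    exact h3
  have hlift : ∀ z ∈ V₀, ∃ x'' : ↥(pullback u j), p₁ x'' = i z ∧ p₂ x'' ∈ T' := by
    intro z hz
    have h1 : η ⤳ z := genericPoint_specializes z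
    have h2 : σ ⤳ u (i z) := (h1.map i.continuous).map u.continuous
    have h3 : u (i z) ∈ Set.range j := by
      rw [hr]; exact specializes_iff_mem_closure.mp h2
    obtain ⟨τ, hτ⟩ := h3
    obtain ⟨x'', hx1, hx2⟩ := Scheme.Pullback.exists_preimage_pullback (f := u) (g := j) (i z) τ
      hτ.symm
    refine ⟨x'', hx1, ?_⟩
    rw [hx2, hmemT', hτ]
    exact hz
  have hkey : ∀ z ∈ V₀, (P u (i z) ↔ i z ∈ O₂) := by
    intro z hz
    obtain ⟨x'', hx1, hx2⟩ := hlift z hz
    have h1 : x'' ∈ W'' ↔ p₁ x'' ∈ O₂ := by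
      have : x'' ∈ p₁.base ⁻¹' O₂ ↔ x'' ∈ W'' := by rw [hO₂W]
      exact this.symm
    rw [← hx1, ← h1, hW''mem]
    exact ⟨fun h => ⟨hx2, h⟩, fun h => h.2⟩
  set G : Set Z := V₀ ∩ i ⁻¹' O₂ with hG
  have hGopen : IsOpen G := hV₀open.inter (hO₂.preimage i.continuous)
  by_cases hGne : G.Nonempty
  · left
    obtain ⟨z, hz⟩ := hGne
    refine ⟨z, mem_interior.mpr ⟨G, ?_, hGopen, hz⟩⟩
    rintro w ⟨hw1, hw2⟩
    exact (hkey w hw1).mpr hw2
  · right
    refine ⟨η, mem_interior.mpr ⟨V₀, ?_, hV₀open, hηV₀⟩⟩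
    intro w hw hwE
    exact hGne ⟨w, hw, (hkey w hw).mp hwE⟩

/-- Affine base, finite presentation: the locus of a fibrewise property is constructible. -/
theorem FibrewiseProp.isConstructible_of_isAffine (hP : FibrewiseProp P) {X S : Scheme.{u}}
    [IsAffine S] (f : X ⟶ S) [LocallyOfFinitePresentation f] [QuasiCompact f] [QuasiSeparated f] :
    IsConstructible {x : X | P f x} := by
  obtain ⟨S₀, X₀, Y₀, u₀, v₀, h, eX, eY, _, _, _, _, _, hX, hY⟩ :=
    Groth.Agent.Lib.Helper78.ConsPair.exists_noeth_model f f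
  have : {x : X | P f x} = eX ⁻¹' {x | P u₀ x} := by
    ext x
    exact hP.baseChange _ _ _ _ hX inferInstance x
  rw [this]
  exact eX.isConstructible_preimage (hP.isConstructible_noeth u₀)

/-- **Local constructibility of the locus of a fibrewise property**, for a morphism locally of
finite presentation. -/
theorem FibrewiseProp.isLocallyConstructible (hP : FibrewiseProp P) {X S : Scheme.{u}}
    (f : X ⟶ S) [LocallyOfFinitePresentation f] :
    Topology.IsLocallyConstructible {x : X | P f x} := by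
  intro x
  obtain ⟨V, hV, hfxV, -⟩ :=
    exists_isAffineOpen_mem_and_subset (X := S) (x := f x) (U := ⊤) trivial
  obtain ⟨U, hU, hxU, hUle⟩ :=
    exists_isAffineOpen_mem_and_subset (X := X) (x := x) (U := f ⁻¹ᵁ V) hfxV
  refine ⟨U, U.2.mem_nhds hxU, U.2, ?_⟩
  have hrange : Set.range (U.ι ≫ f) ⊆ Set.range V.ι := by
    rintro _ ⟨u, rfl⟩
    rw [Scheme.Opens.range_ι]
    exact hUle u.2
  let fU : (U : Scheme.{u}) ⟶ V := IsOpenImmersion.lift V.ι (U.ι ≫ f) hrange
  have hfU : fU ≫ V.ι = U.ι ≫ f := IsOpenImmersion.lift_fac _ _ _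
  haveI : IsAffine (U : Scheme.{u}) := hU
  haveI : IsAffine (V : Scheme.{u}) := hV
  haveI : LocallyOfFinitePresentation (fU ≫ V.ι) := by rw [hfU]; infer_instance
  haveI : LocallyOfFinitePresentation fU := Groth.Agent.Lib.Helper54.CPF.lfp_of_comp fU V.ι
  have hc := hP.isConstructible_of_isAffine fU
  have hset : {u : ↥(U : Scheme.{u}) | P fU u} = {u : ↥(U : Scheme.{u}) | P f (U.ι u)} := by
    ext u
    show P fU u ↔ P f (U.ι u)
    rw [hP.comp_mono_iff fU V.ι, ← hP.openImmersion U.ι f inferInstance inferInstance u]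
    have : ∀ (g₁ g₂ : (U : Scheme.{u}) ⟶ S), g₁ = g₂ → (P g₁ u ↔ P g₂ u) := by
      rintro g₁ g₂ rfl; exact Iff.rfl
    exact this _ _ hfU
  rw [hset] at hc
  exact hc

end Groth.Agent.Lib.Helper73
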