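import Groth.Agent.Lib.Helper73.DimFormula.CMFlat.CMOpenFP
import Groth.Agent.Lib.Helper73.DimFormula.IrrEq
import Groth.Agent.Lib.Helper73.DimFormula.OpenFT
import Groth.Agent.Lib.Helper84.TopDim

/-!
# Fibre dimensions of flat morphisms locally of finite presentation (helper73)

* `exists_lt_localDim_of_lt_topologicalKrullDim`.
* `exists_open_fibreDimAt_eq_of_flat_fp`: every point `x` has a generization `ξ` in its fibre with
  an open neighbourhood on which the fibre dimension is constantly `dim_x X_{f x}`.
-/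

set_option autoImplicit false
universe u
open AlgebraicGeometry CategoryTheory Limits TopologicalSpace

namespace Groth.Agent.Lib.Helper73

/-- If `c < dim T` then some point of `T` has local dimension `> c`. -/
theorem exists_lt_localDim_of_lt_topologicalKrullDim {T : Type*} [TopologicalSpace T]
    (c : WithBot ℕ∞) (h : c < topologicalKrullDim T) : ∃ z : T, c < FlatMor.localDim T z := by
  unfold topologicalKrullDim Order.krullDim at h
  rw [lt_iSup_iff] at h
  obtain ⟨p, hp⟩ := h
  obtain ⟨z, hz⟩ := p.head.isIrreducible.nonempty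
  exact ⟨z, hp.trans_le (Groth.Agent.Lib.Helper84.length_le_localDim p z hz)⟩

/-- For a flat morphism locally of finite presentation, every point `x` has a generization `ξ`
in its fibre with an open neighbourhood on which the fibre dimension is constant equal to the
fibre dimension at `x`. -/
theorem exists_open_fibreDimAt_eq_of_flat_fp {X S : Scheme.{u}} (f : X ⟶ S) [Flat f]
    [LocallyOfFinitePresentation f] (x : X) :
    ∃ (ξ : X) (W : X.Opens), ξ ⤳ x ∧ f ξ = f x ∧ ξ ∈ W ∧
      ∀ w ∈ W, FlatMor.fibreDimAt f w = FlatMor.fibreDimAt f x := by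
  obtain ⟨ξ, hξx, hfξ, hξmax, hξ⟩ := exists_maximal_fiber_resTrdegNat_eq_fibreDimAt f x
  have hCM : MoreMor.IsCMAt f ξ := isCMAt_of_maximal_fiber f ξ (Flat.stalkMap f ξ) hξmax
  obtain ⟨W, hξW, hW⟩ := exists_open_fibreDimAt_eq_of_isCMAt_fp f ξ hCM
  refine ⟨ξ, W, hξx, hfξ, hξW, fun w hw => ?_⟩
  rw [hW w hw, fibreDimAt_eq_resTrdegNat_of_maximal f ξ hξmax, hξ]

end Groth.Agent.Lib.Helper73
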