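import Groth.Agent.Lib.Helper67.FiberStalk3
import Groth.Agent.Lib.Helper77.MiracleFlat
import Groth.Agent.Lib.Helper6.LocalFlat2

/-! # Fibrewise flatness + miracle flatness in a tower of local rings (helper73): `flat_of_tower_miracle`. -/

set_option autoImplicit false
universe u

namespace Groth.Agent.Lib.Helper73

open Groth.Agent.Lib.Helper67.FiberTower IsLocalRing TensorProduct

section TowerFlat

variable {C A B : Type u} [CommRing C] [CommRing A] [CommRing B] [IsLocalRing C] [IsLocalRing A]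
  [IsLocalRing B] (γ : C →+* A) (φ : A →+* B) [IsLocalHom γ] [IsLocalHom φ]

/-- `(A/I) ⊗_A B` is flat over `A/I` as soon as `B/IB` is. -/
theorem flat_quot_tensor_of_flat_quotientMap (I : Ideal A)
    (h : (Ideal.quotientMap (I.map φ) φ Ideal.le_comap_map).Flat) :
    letI : Algebra A B := φ.toAlgebra
    Module.Flat (A ⧸ I) ((A ⧸ I) ⊗[A] B) := by
  letI : Algebra A B := φ.toAlgebra
  letI : Algebra (A ⧸ I) (B ⧸ I.map φ) :=
    (Ideal.quotientMap (I.map φ) φ Ideal.le_comap_map).toAlgebra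
  have h' : Module.Flat (A ⧸ I) (B ⧸ I.map φ) := h
  have hst : IsScalarTower A (A ⧸ I) (B ⧸ I.map φ) :=
    IsScalarTower.of_algebraMap_eq (fun a => rfl)
  have heq : (I • (⊤ : Submodule A B)) = (I.map (algebraMap A B)).restrictScalars A :=
    Ideal.smul_top_eq_map I
  let e1 : (B ⧸ (I.map φ)) ≃ₗ[A] (B ⧸ (I • (⊤ : Submodule A B))) :=
    (Submodule.Quotient.restrictScalarsEquiv A (I.map (algebraMap A B))).symm.trans
      (Submodule.quotEquivOfEq _ _ heq.symm)
  let e2 : ((A ⧸ I) ⊗[A] B) ≃ₗ[A] (B ⧸ (I.map φ)) :=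
    (TensorProduct.quotTensorEquivQuotSMul B I).trans e1.symm
  exact Module.Flat.of_linearEquiv (e2.extendScalarsOfSurjective Ideal.Quotient.mk_surjective)

/-- Fibrewise flatness + miracle flatness in a tower `C → A → B` of local homomorphisms:
if `B` is flat over `C`, `A/m_C A` is regular, `B/m_C B` is Cohen–Macaulay and
`dim B/m_C B = dim A/m_C A + dim B/m_A B`, then `B` is flat over `A`. -/
theorem flat_of_tower_miracle [IsNoetherianRing A] [IsNoetherianRing B]
    (hflat : (φ.comp γ).Flat) [IsRegularLocalRing (A ⧸ IA γ)]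
    [LocCoh.IsCohenMacaulayLocalRing (B ⧸ IB γ φ)]
    (hdim : ringKrullDim (B ⧸ IB γ φ) = ringKrullDim (A ⧸ IA γ) + ringKrullDim (B ⧸ JB φ)) :
    φ.Flat := by
  -- miracle flatness
  have h1 : (φ' γ φ).Flat := by
    letI : Algebra (A ⧸ IA γ) (B ⧸ IB γ φ) := (φ' γ φ).toAlgebra
    haveI : IsLocalHom (algebraMap (A ⧸ IA γ) (B ⧸ IB γ φ)) := isLocalHom_φ' γ φ
    show Module.Flat (A ⧸ IA γ) (B ⧸ IB γ φ)
    apply Groth.Agent.Lib.Helper77.MiracleFlat.miracle_flatness
    rw [hdim]
    congr 1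
    exact (ringKrullDim_eq_of_ringEquiv (fibreEquiv γ φ)).symm
  -- transport to the quotient by `(IA γ).map φ`
  have h2 : (Ideal.quotientMap ((IA γ).map φ) φ Ideal.le_comap_map).Flat := by
    have key : ∀ (J : Ideal B) (hJ : J = (IA γ).map φ) (hle : IA γ ≤ J.comap φ),
        (Ideal.quotientMap J φ hle).Flat → (Ideal.quotientMap ((IA γ).map φ) φ Ideal.le_comap_map).Flat := by
      intro J hJ hle h
      subst hJ
      exact h
    exact key _ (IA_map γ φ).symm _ h1
  have h3 := flat_quot_tensor_of_flat_quotientMap φ (IA γ) h2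
  letI : Algebra C A := γ.toAlgebra
  letI : Algebra A B := φ.toAlgebra
  letI : Algebra C B := (φ.comp γ).toAlgebra
  haveI : IsScalarTower C A B := IsScalarTower.of_algebraMap_eq (fun c => rfl)
  haveI : IsLocalHom (algebraMap C A) := ‹IsLocalHom γ›
  haveI : IsLocalHom (algebraMap A B) := ‹IsLocalHom φ›
  haveI : Module.Flat C B := hflat
  exact Groth.Agent.Lib.Helper6.LocalFlat.flat_of_fibre (R := C) (S := A) B (M := B) h3

end TowerFlat

end Groth.Agent.Lib.Helper73
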