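import Groth.Agent.Lib.Helper73.DimFormula.CMFlat.CMConst
import Groth.Agent.Lib.Helper67.CMOpen

/-! # `resTrdegNat_eq_of_isCMAt`, `fibreDimAt_eq_of_specializes_of_isCMAt`, `isEquidimAt_of_isCMAt`, `localDim_eq_of_isOpenEmbedding` (helper73). -/

set_option autoImplicit false
open CategoryTheory AlgebraicGeometry TopologicalSpace Topology Limits
universe u

namespace Groth.Agent.Lib.Helper73

theorem localDim_eq_of_isOpenEmbedding {X Y : Type*} [TopologicalSpace X] [TopologicalSpace Y]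
    {j : Y → X} (hj : IsOpenEmbedding j) (y : Y) :
    FlatMor.localDim Y y = FlatMor.localDim X (j y) := by
  apply le_antisymm
  · unfold FlatMor.localDim
    refine le_iInf fun V => ?_
    refine iInf_le_of_le ⟨⟨j ⁻¹' V.1.1, V.1.2.preimage hj.continuous⟩, V.2⟩ ?_
    rw [← Groth.Agent.Lib.Helper67.CMOpen.topologicalKrullDim_image_eq hj.isEmbedding]
    exact Groth.Agent.Lib.Helper67.CMOpen.topologicalKrullDim_mono (Set.image_preimage_subset _ _)
  · exact Groth.Agent.Lib.Helper67.CMOpen.localDim_le_of_isOpenEmbedding hj y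

section CM

variable {X Y : Scheme.{u}} [IsLocallyNoetherian Y] (f : X ⟶ Y) [LocallyOfFiniteType f]

/-- If `f` is Cohen–Macaulay at `x` with fibre of local dimension `d` at `x`, every generization of
`x` which is maximal in its fibre has residual transcendence degree `d`. -/
theorem resTrdegNat_eq_of_isCMAt (x : X) (hCM : MoreMor.IsCMAt f x) (d : ℕ)
    (hd : FlatMor.fibreDimAt f x = (d : WithBot ℕ∞)) (ζ : X) (hζx : ζ ⤳ x)
    (hζmax : ∀ t : X, t ⤳ ζ → f t = f ζ → t = ζ) : resTrdegNat f ζ = d := by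
  obtain ⟨U, g, hxU, -, hg, hlqf⟩ :=
    exists_locallyQuasiFinite_toAffineSpace f x d hd.le ⊤ trivial
  have hfl := flat_stalkMap_toAffineSpace_of_isCMAt f x hCM d hd U hxU g hg
  have hgft : LocallyOfFiniteType g := by
    have : LocallyOfFiniteType (g ≫ (𝔸(ULift.{u} (Fin d); Y) ↘ Y)) := by rw [hg]; infer_instance
    exact locallyOfFiniteType_of_comp g (𝔸(ULift.{u} (Fin d); Y) ↘ Y)
  have hζU : ζ ∈ U := hζx.mem_open U.isOpen hxU
  set x' : (U : Scheme.{u}) := ⟨x, hxU⟩ with hx'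
  set ζ' : (U : Scheme.{u}) := ⟨ζ, hζU⟩ with hζ'
  set π := (𝔸(ULift.{u} (Fin d); Y) ↘ Y) with hπ
  have hsp : ζ' ⤳ x' := by
    rw [← U.ι.isOpenEmbedding.isInducing.specializes_iff]
    exact hζx
  have h1 : resTrdegNat f ζ = resTrdegNat π (g ζ') := by
    have := resTrdegNat_comp_of_isOpenImmersion U.ι f ζ'
    change resTrdegNat (U.ι ≫ f) ζ' = resTrdegNat f ζ at this
    rw [← this, ← resTrdegNat_congr hg ζ', resTrdegNat_comp g π ζ',
      resTrdegNat_eq_zero_of_locallyQuasiFinite g ζ', add_zero]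
  rw [h1]
  refine (resTrdegNat_affineSpace_eq_of_maximal (ULift.{u} (Fin d)) Y (g ζ') ?_).trans
    (natCard_ulift_fin.{u} d)
  intro t ht hπt
  obtain ⟨z'', hz''ζ', hgz''⟩ := exists_specializes_of_flat_stalkMap g x' ζ' hsp hfl t ht
  have hfz : f z''.1 = f ζ := by
    have e1 : (g ≫ π) z'' = (g ≫ π) ζ' := by
      change π (g z'') = π (g ζ')
      rw [hgz'']; exact hπt
    rw [hg] at e1
    exact e1
  have hz''ζ : z''.1 ⤳ ζ := hz''ζ'.map U.ι.continuous
  have := hζmax z''.1 hz''ζ hfz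
  have hzz : z'' = ζ' := Subtype.ext this
  rw [← hgz'', hzz]

/-- Local constancy of the fibre dimension along generizations at Cohen–Macaulay points. -/
theorem fibreDimAt_eq_of_specializes_of_isCMAt (x : X) (hCM : MoreMor.IsCMAt f x) (z : X)
    (hz : z ⤳ x) : FlatMor.fibreDimAt f z = FlatMor.fibreDimAt f x := by
  obtain ⟨d, hd⟩ := exists_fibreDimAt_eq_natCast f x
  obtain ⟨ζ, hζz, -, hζmax, hζ⟩ := exists_maximal_fiber_resTrdegNat_eq_fibreDimAt f z
  rw [hζ, hd, resTrdegNat_eq_of_isCMAt f x hCM d hd ζ (hζz.trans hz) hζmax]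

/-- EGA IV 15.4.3-type statement: flat with Cohen–Macaulay fibre at `x` implies equidimensional at
`x`. -/
theorem isEquidimAt_of_isCMAt (x : X) (hCM : MoreMor.IsCMAt f x) : EGA43.IsEquidimAt f x := by
  obtain ⟨d, hd⟩ := exists_fibreDimAt_eq_natCast f x
  refine isEquidimAt_of_forall_maximal f x d hd.le ?_
  intro ξ hξx hξmax
  refine ⟨?_, resTrdegNat_eq_of_isCMAt f x hCM d hd ξ hξx (fun t ht _ => hξmax t ht)⟩
  intro t ht
  obtain ⟨z', hz'ξ, hfz'⟩ := exists_specializes_of_flat_stalkMap f x ξ hξx hCM.1 t ht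
  rw [← hfz', hξmax z' hz'ξ]

end CM


end Groth.Agent.Lib.Helper73
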