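import Groth.Agent.Lib.Helper73.DimFormula.CMFlat.CMFlatAff

/-! # `isCMAt_of_isOpenImmersion`, `flat_stalkMap_toAffineSpace_of_isCMAt`: a quasi-finite map to affine space from a neighbourhood of a Cohen-Macaulay point is flat there (helper73). -/

set_option autoImplicit false
open CategoryTheory AlgebraicGeometry TopologicalSpace Topology Limits
universe u

namespace Groth.Agent.Lib.Helper73

open Groth.Agent.Lib.Helper67.FiberStalk Groth.Agent.Lib.Helper67.FiberTower

/-- Quasi-finiteness at a point kills the dimension of the local ring of the fibre. -/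
theorem ringKrullDim_fiber_stalk_eq_zero_of_quasiFiniteAt {X Y : Scheme.{u}} (g : X ⟶ Y)
    [LocallyOfFiniteType g] (x : X) (hx : g.QuasiFiniteAt x) :
    ringKrullDim ((g.fiber (g.base x)).presheaf.stalk (g.asFiber x)) = 0 ∧
      resTrdegNat g x = 0 := by
  have h1 := (quasiFiniteAt_iff_fibreDimAt_le_zero g x).mp hx
  rw [fibreDimAt_eq] at h1
  obtain ⟨m, hm⟩ := exists_ringKrullDim_fiber_stalk_eq_natCast g x
  rw [hm] at h1 ⊢
  have h2 : m + resTrdegNat g x ≤ 0 := by exact_mod_cast h1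
  have h3 : m = 0 := by omega
  have h4 : resTrdegNat g x = 0 := by omega
  exact ⟨by rw [h3]; rfl, h4⟩

/-- An open immersion is Cohen–Macaulay at every point. -/
theorem isCMAt_of_isOpenImmersion {U X : Scheme.{u}} (j : U ⟶ X) [IsOpenImmersion j] (x : U) :
    MoreMor.IsCMAt j x := by
  refine ⟨?_, ?_⟩
  · have : IsIso (j.stalkMap x) := inferInstance
    exact RingHom.Flat.of_bijective (ConcreteCategory.bijective_of_isIso (j.stalkMap x))
  · have hN : IsLocallyNoetherian (j.fiber (j x)) :=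
      LocallyOfFiniteType.isLocallyNoetherian (j.fiberToSpecResidueField (j x))
    have h0 := (ringKrullDim_fiber_stalk_eq_zero_of_quasiFiniteAt j x (j.quasiFiniteAt x)).1
    exact Groth.Agent.Lib.Helper77.FlatDepth.isCM_of_dim_zero _ h0

/-- **Key flatness statement.** Let `Y` be locally Noetherian, `f : X ⟶ Y` locally of finite type,
flat at `x` with Cohen–Macaulay fibre at `x`, `d` the local dimension of the fibre at `x`. Any
locally quasi-finite `Y`-morphism `g` from an open neighbourhood `U` of `x` to the affine space of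
dimension `d` over `Y` is flat at `x`. -/
theorem flat_stalkMap_toAffineSpace_of_isCMAt {X Y : Scheme.{u}} [IsLocallyNoetherian Y]
    (f : X ⟶ Y) [LocallyOfFiniteType f] (x : X) (hCM : MoreMor.IsCMAt f x) (d : ℕ)
    (hd : FlatMor.fibreDimAt f x = (d : WithBot ℕ∞)) (U : X.Opens) (hxU : x ∈ U)
    (g : (U : Scheme.{u}) ⟶ 𝔸(ULift.{u} (Fin d); Y))
    (hg : g ≫ (𝔸(ULift.{u} (Fin d); Y) ↘ Y) = U.ι ≫ f) [LocallyQuasiFinite g] :
    (g.stalkMap ⟨x, hxU⟩).hom.Flat := by
  have hLNX : IsLocallyNoetherian X := LocallyOfFiniteType.isLocallyNoetherian f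
  have hLNU : IsLocallyNoetherian (U : Scheme.{u}) :=
    LocallyOfFiniteType.isLocallyNoetherian (U.ι ≫ f)
  have hLNP : IsLocallyNoetherian (𝔸(ULift.{u} (Fin d); Y)) :=
    LocallyOfFiniteType.isLocallyNoetherian (𝔸(ULift.{u} (Fin d); Y) ↘ Y)
  have hgft : LocallyOfFiniteType g := by
    have : LocallyOfFiniteType (g ≫ (𝔸(ULift.{u} (Fin d); Y) ↘ Y)) := by rw [hg]; infer_instance
    exact locallyOfFiniteType_of_comp g (𝔸(ULift.{u} (Fin d); Y) ↘ Y)
  set x' : (U : Scheme.{u}) := ⟨x, hxU⟩ with hx'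
  set π := (𝔸(ULift.{u} (Fin d); Y) ↘ Y) with hπ
  -- CM at x' of U.ι ≫ f
  have hN : IsNoetherianRing (Q (U.ι ≫ f) x') :=
    isNoetherianRing_Q (U.ι ≫ f) x'
      (LocallyOfFiniteType.isLocallyNoetherian ((U.ι ≫ f).fiberToSpecResidueField ((U.ι ≫ f) x')))
  have hCM' : MoreMor.IsCMAt (U.ι ≫ f) x' :=
    isCMAt_comp U.ι f x' hN (isCMAt_of_isOpenImmersion U.ι x') hCM
  -- dimensions
  have hfd : FlatMor.fibreDimAt (U.ι ≫ f) x' = (d : WithBot ℕ∞) := by
    rw [fibreDimAt_eq_of_isOpenImmersion_square U.ι (𝟙 Y) (U.ι ≫ f) f (by simp) x']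
    exact hd
  have hqf := ringKrullDim_fiber_stalk_eq_zero_of_quasiFiniteAt g x' (g.quasiFiniteAt x')
  have hπd := fibreDimAt_affineSpace (ULift.{u} (Fin d)) Y (g x')
  rw [natCard_ulift_fin] at hπd
  have hres : resTrdegNat (U.ι ≫ f) x' = resTrdegNat π (g x') := by
    rw [← resTrdegNat_congr hg x', resTrdegNat_comp g π x', hqf.2, add_zero]
  refine flat_stalkMap_of_tower π g (U.ι ≫ f) hg x' hCM'.1
    (isRegularLocalRing_affineSpace_fiber_stalk _ Y (g x')) hCM'.2 ?_
  rw [hqf.1, add_zero]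
  rw [fibreDimAt_eq, hres] at hfd
  rw [fibreDimAt_eq] at hπd
  obtain ⟨m, hm⟩ := exists_ringKrullDim_fiber_stalk_eq_natCast (U.ι ≫ f) x'
  obtain ⟨m', hm'⟩ := exists_ringKrullDim_fiber_stalk_eq_natCast π (g x')
  rw [hm] at hfd ⊢
  rw [hm'] at hπd ⊢
  have h1 : m + resTrdegNat π (g x') = d := by exact_mod_cast hfd
  have h2 : m' + resTrdegNat π (g x') = d := by exact_mod_cast hπd
  have : m = m' := by omega
  rw [this]

end Groth.Agent.Lib.Helper73
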