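import Mathlib.AlgebraicGeometry.Stalk
import Mathlib.AlgebraicGeometry.Morphisms.Flat
import Mathlib.RingTheory.RingHom.Flat

/-! # Going down at a point where a morphism is flat (helper73): `exists_specializes_of_flat_stalkMap`. -/

set_option autoImplicit false
open CategoryTheory AlgebraicGeometry TopologicalSpace Topology Limits
universe u

namespace Groth.Agent.Lib.Helper73

set_option backward.isDefEq.respectTransparency.types false in
/-- Going down at a point: if `g` is flat at `x`, generizations of the images of generizations of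
`x` lift. -/
theorem exists_specializes_of_flat_stalkMap {U P : Scheme.{u}} (g : U ⟶ P) (x z : U)
    (hz : z ⤳ x) (hfl : (g.stalkMap x).hom.Flat) (w : P) (hw : w ⤳ g z) :
    ∃ z' : U, z' ⤳ z ∧ g z' = w := by
  have hnat := Scheme.SpecMap_stalkMap_fromSpecStalk g (x := x)
  -- z comes from a prime q
  have hzr : z ∈ Set.range (U.fromSpecStalk x) := by
    rw [Scheme.range_fromSpecStalk]; exact hz
  obtain ⟨q, rfl⟩ := hzr
  have hgq : g (U.fromSpecStalk x q) = P.fromSpecStalk (g x) (Spec.map (g.stalkMap x) q) := by
    rw [← Scheme.Hom.comp_apply, ← hnat, Scheme.Hom.comp_apply]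
  have hwr : w ∈ Set.range (P.fromSpecStalk (g x)) := by
    rw [Scheme.range_fromSpecStalk]
    exact hw.trans (hz.map g.continuous)
  obtain ⟨p', rfl⟩ := hwr
  rw [hgq, (P.fromSpecStalk (g x)).isEmbedding.isInducing.specializes_iff] at hw
  obtain ⟨q', hq'q, hq'⟩ := hfl.generalizingMap_comap hw
  refine ⟨U.fromSpecStalk x q', hq'q.map (U.fromSpecStalk x).continuous, ?_⟩
  rw [← Scheme.Hom.comp_apply, ← hnat, Scheme.Hom.comp_apply]
  exact congrArg _ hq'

end Groth.Agent.Lib.Helper73
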