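import Groth.Agent.Lib.Helper73.DimFormula.CMFlat.TowerFlat
import Groth.Agent.Lib.Helper73.DimFormula.CMFlat.GoingDownPt
import Groth.Agent.Lib.Helper73.DimFormula.FiberDimAdd
import Groth.Agent.Lib.Helper73.DimFormula.AffineSpaceQF
import Groth.Agent.Lib.Helper77.FlatDepth4
import Mathlib.RingTheory.RegularLocalRing.Polynomial

/-! # Regularity of the fibres of affine space, `fibreDimAt_affineSpace`, and the scheme-level `flat_stalkMap_of_tower` (helper73). -/

set_option autoImplicit false
open CategoryTheory AlgebraicGeometry TopologicalSpace Topology Limits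
universe u

namespace Groth.Agent.Lib.Helper73

open Groth.Agent.Lib.Helper67.FiberStalk Groth.Agent.Lib.Helper67.FiberTower

/-- The stalks of a scheme isomorphic to the spectrum of a regular ring are regular. -/
theorem isRegularLocalRing_stalk_of_iso {X : Scheme.{u}} {R : Type u} [CommRing R]
    [IsRegularRing R] (e : X ≅ Spec (.of R)) (z : X) :
    IsRegularLocalRing (X.presheaf.stalk z) := by
  have e1 : (Spec (.of R)).presheaf.stalk (e.hom z) ≃+* X.presheaf.stalk z :=
    (asIso (e.hom.stalkMap z)).commRingCatIsoToRingEquiv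
  let p : PrimeSpectrum.Top R := e.hom z
  haveI : p.asIdeal.IsPrime := p.isPrime
  have e2 : Localization.AtPrime p.asIdeal ≃+* (Spec (.of R)).presheaf.stalk (e.hom z) :=
    (StructureSheaf.stalkIso R p).toRingEquiv
  have : IsRegularLocalRing (Localization.AtPrime p.asIdeal) := inferInstance
  exact IsRegularLocalRing.of_ringEquiv (e2.trans e1)

/-- The local rings of the fibres of the affine space are regular. -/
theorem isRegularLocalRing_affineSpace_fiber_stalk (n : Type u) [Finite n] (S : Scheme.{u})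
    (w : 𝔸(n; S)) :
    IsRegularLocalRing (((𝔸(n; S) ↘ S).fiber ((𝔸(n; S) ↘ S) w)).presheaf.stalk
      ((𝔸(n; S) ↘ S).asFiber w)) :=
  isRegularLocalRing_stalk_of_iso (affineSpaceFiberIso n S ((𝔸(n; S) ↘ S) w)) _

/-- The fibres of the affine space of dimension `n` have local dimension `n` everywhere. -/
theorem fibreDimAt_affineSpace (n : Type u) [Finite n] (S : Scheme.{u}) (w : 𝔸(n; S)) :
    FlatMor.fibreDimAt (𝔸(n; S) ↘ S) w = ((Nat.card n : ℕ) : WithBot ℕ∞) := by
  apply fibreDimAt_eq_of_forall_maximal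
  intro ζ _ _ hζ
  exact resTrdegNat_affineSpace_eq_of_maximal n S ζ hζ

/-- Scheme-level fibrewise flatness + miracle flatness. -/
theorem flat_stalkMap_of_tower {Y P U : Scheme.{u}} (π : P ⟶ Y) (g : U ⟶ P)
    [LocallyOfFiniteType π] [LocallyOfFiniteType g] [IsLocallyNoetherian P]
    [IsLocallyNoetherian U] (h : U ⟶ Y) (hh : g ≫ π = h) (x : U)
    (hflat : (h.stalkMap x).hom.Flat)
    (hreg : IsRegularLocalRing ((π.fiber (π (g x))).presheaf.stalk (π.asFiber (g x))))
    (hCM : LocCoh.IsCohenMacaulayLocalRing ((h.fiber (h x)).presheaf.stalk (h.asFiber x)))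
    (hdim : ringKrullDim ((h.fiber (h x)).presheaf.stalk (h.asFiber x)) =
      ringKrullDim ((π.fiber (π (g x))).presheaf.stalk (π.asFiber (g x))) +
        ringKrullDim ((g.fiber (g x)).presheaf.stalk (g.asFiber x))) :
    (g.stalkMap x).hom.Flat := by
  subst hh
  have hfl' : ((g.stalkMap x).hom.comp (π.stalkMap (g x)).hom).Flat := by
    have := hflat
    rw [Scheme.Hom.stalkMap_comp] at this
    exact this
  haveI : IsRegularLocalRing (P.presheaf.stalk (g x) ⧸ IA (π.stalkMap (g x)).hom) :=
    IsRegularLocalRing.of_ringEquiv (fiberStalkEquiv π (g x))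
  haveI : LocCoh.IsCohenMacaulayLocalRing
      (U.presheaf.stalk x ⧸ IB (π.stalkMap (g x)).hom (g.stalkMap x).hom) :=
    Groth.Agent.Lib.Helper56.isCohenMacaulayLocalRing_of_ringEquiv
      ((fiberStalkEquiv (g ≫ π) x).trans (qCompEquiv g π x)) hCM
  apply flat_of_tower_miracle (π.stalkMap (g x)).hom (g.stalkMap x).hom hfl'
  rw [← ringKrullDim_eq_of_ringEquiv ((fiberStalkEquiv (g ≫ π) x).trans (qCompEquiv g π x)),
    hdim, ringKrullDim_eq_of_ringEquiv (fiberStalkEquiv π (g x)),
    ringKrullDim_eq_of_ringEquiv (fiberStalkEquiv g x)]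

end Groth.Agent.Lib.Helper73
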