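import Groth.Agent.Lib.Helper73.DimFormula.CMFlat.CMEquidim
import Groth.Agent.Lib.Helper54.CPFScheme

/-!
# Cohen–Macaulay points of finitely presented morphisms, no Noetherian hypotheses (helper73)

The results of `CMFlat/CMConst`, `CMFlat/CMEquidim` with "`Y` locally Noetherian, `f` locally of
finite type" replaced by "`f` locally of finite presentation", using helper54's critère de
platitude par fibres in the finitely presented case.
-/

set_option autoImplicit false
open CategoryTheory AlgebraicGeometry TopologicalSpace Topology Limits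
universe u

namespace Groth.Agent.Lib.Helper73

open Groth.Agent.Lib.Helper67.FiberStalk Groth.Agent.Lib.Helper67.FiberTower

/-- Scheme-level fibrewise flatness + miracle flatness, finitely presented version. -/
theorem flat_stalkMap_of_tower_fp {Y P U : Scheme.{u}} (π : P ⟶ Y) (g : U ⟶ P)
    [LocallyOfFiniteType π] (h : U ⟶ Y) [LocallyOfFinitePresentation h] (hh : g ≫ π = h) (x : U)
    (hflat : (h.stalkMap x).hom.Flat)
    (hreg : IsRegularLocalRing ((π.fiber (π (g x))).presheaf.stalk (π.asFiber (g x))))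
    (hCM : LocCoh.IsCohenMacaulayLocalRing ((h.fiber (h x)).presheaf.stalk (h.asFiber x)))
    (hdim : ringKrullDim ((h.fiber (h x)).presheaf.stalk (h.asFiber x)) =
      ringKrullDim ((π.fiber (π (g x))).presheaf.stalk (π.asFiber (g x))) +
        ringKrullDim ((g.fiber (g x)).presheaf.stalk (g.asFiber x))) :
    (g.stalkMap x).hom.Flat := by
  subst hh
  haveI : IsRegularLocalRing (P.presheaf.stalk (g x) ⧸ IA (π.stalkMap (g x)).hom) :=
    IsRegularLocalRing.of_ringEquiv (fiberStalkEquiv π (g x))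
  haveI : LocCoh.IsCohenMacaulayLocalRing
      (U.presheaf.stalk x ⧸ IB (π.stalkMap (g x)).hom (g.stalkMap x).hom) :=
    Groth.Agent.Lib.Helper56.isCohenMacaulayLocalRing_of_ringEquiv
      ((fiberStalkEquiv (g ≫ π) x).trans (qCompEquiv g π x)) hCM
  have hdim' : ringKrullDim (U.presheaf.stalk x ⧸ IB (π.stalkMap (g x)).hom (g.stalkMap x).hom) =
      ringKrullDim (P.presheaf.stalk (g x) ⧸ IA (π.stalkMap (g x)).hom) +
        ringKrullDim (U.presheaf.stalk x ⧸ JB (g.stalkMap x).hom) := by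
    rw [← ringKrullDim_eq_of_ringEquiv ((fiberStalkEquiv (g ≫ π) x).trans (qCompEquiv g π x)),
      hdim, ringKrullDim_eq_of_ringEquiv (fiberStalkEquiv π (g x)),
      ringKrullDim_eq_of_ringEquiv (fiberStalkEquiv g x)]
  -- miracle flatness on the fibres
  have h1 : (φ' (π.stalkMap (g x)).hom (g.stalkMap x).hom).Flat := by
    letI : Algebra (P.presheaf.stalk (g x) ⧸ IA (π.stalkMap (g x)).hom)
        (U.presheaf.stalk x ⧸ IB (π.stalkMap (g x)).hom (g.stalkMap x).hom) :=
      (φ' (π.stalkMap (g x)).hom (g.stalkMap x).hom).toAlgebra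
    haveI : IsLocalHom (algebraMap (P.presheaf.stalk (g x) ⧸ IA (π.stalkMap (g x)).hom)
        (U.presheaf.stalk x ⧸ IB (π.stalkMap (g x)).hom (g.stalkMap x).hom)) :=
      isLocalHom_φ' (π.stalkMap (g x)).hom (g.stalkMap x).hom
    show Module.Flat (P.presheaf.stalk (g x) ⧸ IA (π.stalkMap (g x)).hom)
        (U.presheaf.stalk x ⧸ IB (π.stalkMap (g x)).hom (g.stalkMap x).hom)
    apply Groth.Agent.Lib.Helper77.MiracleFlat.miracle_flatness
    rw [hdim']
    congr 1
    exact (ringKrullDim_eq_of_ringEquiv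
      (fibreEquiv (π.stalkMap (g x)).hom (g.stalkMap x).hom)).symm
  exact Groth.Agent.Lib.Helper54.CPF.stalk_cpf g π x hflat h1

/-- **Key flatness statement**, finitely presented version. -/
theorem flat_stalkMap_toAffineSpace_of_isCMAt_fp {X Y : Scheme.{u}}
    (f : X ⟶ Y) [LocallyOfFinitePresentation f] (x : X) (hCM : MoreMor.IsCMAt f x) (d : ℕ)
    (hd : FlatMor.fibreDimAt f x = (d : WithBot ℕ∞)) (U : X.Opens) (hxU : x ∈ U)
    (g : (U : Scheme.{u}) ⟶ 𝔸(ULift.{u} (Fin d); Y))
    (hg : g ≫ (𝔸(ULift.{u} (Fin d); Y) ↘ Y) = U.ι ≫ f) [LocallyQuasiFinite g] :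
    (g.stalkMap ⟨x, hxU⟩).hom.Flat := by
  have hgft : LocallyOfFiniteType g := by
    have : LocallyOfFiniteType (g ≫ (𝔸(ULift.{u} (Fin d); Y) ↘ Y)) := by rw [hg]; infer_instance
    exact locallyOfFiniteType_of_comp g (𝔸(ULift.{u} (Fin d); Y) ↘ Y)
  set x' : (U : Scheme.{u}) := ⟨x, hxU⟩ with hx'
  set π := (𝔸(ULift.{u} (Fin d); Y) ↘ Y) with hπ
  -- CM at x' of U.ι ≫ f
  have hN : IsNoetherianRing (Q (U.ι ≫ f) x') :=
    isNoetherianRing_Q (U.ι ≫ f) x'
      (LocallyOfFiniteType.isLocallyNoetherian ((U.ι ≫ f).fiberToSpecResidueField ((U.ι ≫ f) x')))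
  have hCM' : MoreMor.IsCMAt (U.ι ≫ f) x' :=
    isCMAt_comp U.ι f x' hN (isCMAt_of_isOpenImmersion U.ι x') hCM
  -- dimensions
  have hfd : FlatMor.fibreDimAt (U.ι ≫ f) x' = (d : WithBot ℕ∞) := by
    rw [fibreDimAt_eq_of_isOpenImmersion_square U.ι (𝟙 Y) (U.ι ≫ f) f (by simp) x']
    exact hd
  have hqf := ringKrullDim_fiber_stalk_eq_zero_of_quasiFiniteAt g x' (g.quasiFiniteAt x')
  have hπd := fibreDimAt_affineSpace (ULift.{u} (Fin d)) Y (g x')
  rw [natCard_ulift_fin] at hπd
  have hres : resTrdegNat (U.ι ≫ f) x' = resTrdegNat π (g x') := by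
    rw [← resTrdegNat_congr hg x', resTrdegNat_comp g π x', hqf.2, add_zero]
  refine flat_stalkMap_of_tower_fp π g (U.ι ≫ f) hg x' hCM'.1
    (isRegularLocalRing_affineSpace_fiber_stalk _ Y (g x')) hCM'.2 ?_
  rw [hqf.1, add_zero]
  rw [fibreDimAt_eq, hres] at hfd
  rw [fibreDimAt_eq] at hπd
  obtain ⟨m, hm⟩ := exists_ringKrullDim_fiber_stalk_eq_natCast (U.ι ≫ f) x'
  obtain ⟨m', hm'⟩ := exists_ringKrullDim_fiber_stalk_eq_natCast π (g x')
  rw [hm] at hfd ⊢
  rw [hm'] at hπd ⊢
  have h1 : m + resTrdegNat π (g x') = d := by exact_mod_cast hfd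
  have h2 : m' + resTrdegNat π (g x') = d := by exact_mod_cast hπd
  have : m = m' := by omega
  rw [this]

section CM

variable {X Y : Scheme.{u}} (f : X ⟶ Y) [LocallyOfFinitePresentation f]

/-- If `f` is Cohen–Macaulay at `x` with fibre of local dimension `d` at `x`, every generization of
`x` which is maximal in its fibre has residual transcendence degree `d`. -/
theorem resTrdegNat_eq_of_isCMAt_fp (x : X) (hCM : MoreMor.IsCMAt f x) (d : ℕ)
    (hd : FlatMor.fibreDimAt f x = (d : WithBot ℕ∞)) (ζ : X) (hζx : ζ ⤳ x)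
    (hζmax : ∀ t : X, t ⤳ ζ → f t = f ζ → t = ζ) : resTrdegNat f ζ = d := by
  obtain ⟨U, g, hxU, -, hg, hlqf⟩ :=
    exists_locallyQuasiFinite_toAffineSpace f x d hd.le ⊤ trivial
  have hfl := flat_stalkMap_toAffineSpace_of_isCMAt_fp f x hCM d hd U hxU g hg
  have hgft : LocallyOfFiniteType g := by
    have : LocallyOfFiniteType (g ≫ (𝔸(ULift.{u} (Fin d); Y) ↘ Y)) := by rw [hg]; infer_instance
    exact locallyOfFiniteType_of_comp g (𝔸(ULift.{u} (Fin d); Y) ↘ Y)
  have hζU : ζ ∈ U := hζx.mem_open U.isOpen hxU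
  set x' : (U : Scheme.{u}) := ⟨x, hxU⟩ with hx'
  set ζ' : (U : Scheme.{u}) := ⟨ζ, hζU⟩ with hζ'
  set π := (𝔸(ULift.{u} (Fin d); Y) ↘ Y) with hπ
  have hsp : ζ' ⤳ x' := by
    rw [← U.ι.isOpenEmbedding.isInducing.specializes_iff]
    exact hζx
  have h1 : resTrdegNat f ζ = resTrdegNat π (g ζ') := by
    have := resTrdegNat_comp_of_isOpenImmersion U.ι f ζ'
    change resTrdegNat (U.ι ≫ f) ζ' = resTrdegNat f ζ at this
    rw [← this, ← resTrdegNat_congr hg ζ', resTrdegNat_comp g π ζ',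
      resTrdegNat_eq_zero_of_locallyQuasiFinite g ζ', add_zero]
  rw [h1]
  refine (resTrdegNat_affineSpace_eq_of_maximal (ULift.{u} (Fin d)) Y (g ζ') ?_).trans
    (natCard_ulift_fin.{u} d)
  intro t ht hπt
  obtain ⟨z'', hz''ζ', hgz''⟩ := exists_specializes_of_flat_stalkMap g x' ζ' hsp hfl t ht
  have hfz : f z''.1 = f ζ := by
    have e1 : (g ≫ π) z'' = (g ≫ π) ζ' := by
      change π (g z'') = π (g ζ')
      rw [hgz'']; exact hπt
    rw [hg] at e1
    exact e1
  have hz''ζ : z''.1 ⤳ ζ := hz''ζ'.map U.ι.continuous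
  have := hζmax z''.1 hz''ζ hfz
  have hzz : z'' = ζ' := Subtype.ext this
  rw [← hgz'', hzz]

/-- Local constancy of the fibre dimension along generizations at Cohen–Macaulay points. -/
theorem fibreDimAt_eq_of_specializes_of_isCMAt_fp (x : X) (hCM : MoreMor.IsCMAt f x) (z : X)
    (hz : z ⤳ x) : FlatMor.fibreDimAt f z = FlatMor.fibreDimAt f x := by
  obtain ⟨d, hd⟩ := exists_fibreDimAt_eq_natCast f x
  obtain ⟨ζ, hζz, -, hζmax, hζ⟩ := exists_maximal_fiber_resTrdegNat_eq_fibreDimAt f z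
  rw [hζ, hd, resTrdegNat_eq_of_isCMAt_fp f x hCM d hd ζ (hζz.trans hz) hζmax]

end CM

end Groth.Agent.Lib.Helper73

namespace Groth.Agent.Lib.Helper73

/-- A point which is the generic point of an irreducible component of its fibre has no proper
generization in the fibre. -/
theorem eq_of_specializes_of_isGenericPoint_irreducibleComponent {W : Type*} [TopologicalSpace W]
    [T0Space W] (a : W) (Z : Set W) (hZ : Z ∈ irreducibleComponents W) (ha : IsGenericPoint a Z)
    (t : W) (ht : t ⤳ a) : t = a := by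
  have h1 : Z ⊆ closure ({t} : Set W) := by
    rw [← ha.def]
    exact ht.closure_subset
  have h2 : closure ({t} : Set W) ⊆ Z := hZ.2 isIrreducible_singleton.closure h1
  have h3 : a ⤳ t := by
    rw [specializes_iff_mem_closure, ha.def]
    exact h2 (subset_closure rfl)
  exact (ht.antisymm h3).eq

/-- A flat morphism locally of finite type is Cohen–Macaulay at the generic points of the
irreducible components of its fibres. -/
theorem isCMAt_of_isGenericPoint_irreducibleComponent {X S : Scheme.{u}} (f : X ⟶ S)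
    [LocallyOfFiniteType f] (x : X) (hfl : (f.stalkMap x).hom.Flat)
    (hgen : ∃ Z ∈ irreducibleComponents ↥(f.fiber (f x)), IsGenericPoint (f.asFiber x) Z) :
    MoreMor.IsCMAt f x := by
  refine ⟨hfl, ?_⟩
  obtain ⟨Z, hZ, ha⟩ := hgen
  have hN : IsLocallyNoetherian (f.fiber (f x)) :=
    LocallyOfFiniteType.isLocallyNoetherian (f.fiberToSpecResidueField (f x))
  have h0 : ringKrullDim ((f.fiber (f x)).presheaf.stalk (f.asFiber x)) = 0 := by
    rw [ringKrullDim_stalk_eq_coheight, WithBot.coe_eq_zero, Order.coheight_eq_zero]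
    intro t ht
    have : t = f.asFiber x :=
      eq_of_specializes_of_isGenericPoint_irreducibleComponent _ Z hZ ha t
        (Scheme.le_iff_specializes.mp ht)
    exact this ▸ le_rfl
  exact Groth.Agent.Lib.Helper77.FlatDepth.isCM_of_dim_zero _ h0

end Groth.Agent.Lib.Helper73
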