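import Groth.Agent.Lib.Helper73.DimFormula.CMFlat.CMEquidim

/-! # `localDim_eq_add_of_forall_isCMAt`: dim_x X = dim_y Y + dim_x X_y for Cohen-Macaulay morphisms (helper73). -/

set_option autoImplicit false
open CategoryTheory AlgebraicGeometry TopologicalSpace Topology Limits
universe u

namespace Groth.Agent.Lib.Helper73

open Groth.Agent.Lib.Helper67.FiberStalk in
/-- Stacks 0C0W-type statement: for a Cohen–Macaulay morphism locally of finite type between locally
Noetherian schemes, `dim_x X = dim_{f x} Y + dim_x X_{f x}`. -/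
theorem localDim_eq_add_of_forall_isCMAt {X Y : Scheme.{u}} [IsLocallyNoetherian X]
    [IsLocallyNoetherian Y] (f : X ⟶ Y) [LocallyOfFiniteType f]
    (hf : ∀ x : X, MoreMor.IsCMAt f x) (x : X) :
    FlatMor.localDim ↑X x = FlatMor.localDim ↑Y (f x) + FlatMor.fibreDimAt f x := by
  obtain ⟨d, hd⟩ := exists_fibreDimAt_eq_natCast f x
  obtain ⟨U0, hxU0, hU0⟩ := exists_open_forall_maximal_specializes x
  have hconst : ∀ a ∈ U0, FlatMor.fibreDimAt f a = (d : WithBot ℕ∞) := by
    intro a ha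
    obtain ⟨ξ, hξa, hξmax⟩ := exists_maximal_specializes a
    have hξU0 : ξ ∈ U0 := hξa.mem_open U0.isOpen ha
    have hξx := hU0 ξ hξU0 hξmax
    rw [← fibreDimAt_eq_of_specializes_of_isCMAt f a (hf a) ξ hξa,
      fibreDimAt_eq_of_specializes_of_isCMAt f x (hf x) ξ hξx, hd]
  set h : (U0 : Scheme.{u}) ⟶ Y := U0.ι ≫ f with hh
  have hLNU : IsLocallyNoetherian (U0 : Scheme.{u}) := LocallyOfFiniteType.isLocallyNoetherian h
  have hflat : Flat h := by
    apply Flat.of_stalkMap
    intro a'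
    have hN : IsNoetherianRing (Q (U0.ι ≫ f) a') :=
      isNoetherianRing_Q (U0.ι ≫ f) a'
        (LocallyOfFiniteType.isLocallyNoetherian
          ((U0.ι ≫ f).fiberToSpecResidueField ((U0.ι ≫ f) a')))
    exact (isCMAt_comp U0.ι f a' hN (isCMAt_of_isOpenImmersion U0.ι a') (hf _)).1
  have hrel : Cyc.HasRelDim h d := by
    rw [hasRelDim_iff_forall_maximal]
    intro ζ' hζ'max
    have e1 := resTrdegNat_comp_of_isOpenImmersion U0.ι f ζ'
    rw [e1]
    refine resTrdegNat_eq_of_isCMAt f (U0.ι ζ') (hf _) d (hconst _ ζ'.2) (U0.ι ζ') specializes_rfl ?_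
    intro t ht hft
    have htU0 : t ∈ U0 := ht.mem_open U0.isOpen ζ'.2
    let t' : ↥(U0 : Scheme.{u}) := ⟨t, htU0⟩
    have ht' : t' ⤳ ζ' := by
      rw [← U0.ι.isOpenEmbedding.isInducing.specializes_iff]
      exact ht
    have := hζ'max t' ht' hft
    exact congrArg Subtype.val this
  have hmain := localDim_eq_add_of_hasRelDim h d hrel ⟨x, hxU0⟩
  rw [hd]
  change _ = FlatMor.localDim (↥Y) (h ⟨x, hxU0⟩) + _
  rw [← hmain]
  exact (localDim_eq_of_isOpenEmbedding U0.ι.isOpenEmbedding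
    (⟨x, hxU0⟩ : ↥(U0 : Scheme.{u}))).symm


end Groth.Agent.Lib.Helper73
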