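import Groth.Agent.Lib.Helper73.DimFormula.CMFlat.GrpdCM
import Groth.Agent.Lib.Helper78.ConsNoeth
import Groth.Agent.Lib.Helper78.ConsPair
import Groth.Agent.Lib.Helper55.GR.Scheme
import Groth.Agent.Lib.Helper21.IntegralSub

/-!
# Constructibility of the locus where the fibre is Cohen–Macaulay (helper73)

* `FibCM f x`: the local ring at `x` of the fibre of `f` through `x` is Cohen–Macaulay.
* `fibCM_iff_of_isPullback`: invariance under arbitrary base change (`f` locally of finite type).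
* `fibCM_comp_mono_iff`, `fibCM_openImmersion_comp_iff`: locality on target and source.
* `isConstructible_setOf_fibCM_noeth`: Noetherian base, finite type: the locus is constructible
  (Noetherian induction + generic flatness + openness of the CM locus of flat lfp morphisms).
* `isConstructible_setOf_fibCM_of_isAffine`: affine base, finite presentation.
-/

set_option autoImplicit false
universe u
open AlgebraicGeometry CategoryTheory CategoryTheory.Limits Topology

namespace Groth.Agent.Lib.Helper73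

/-- The local ring at `x` of the fibre of `f` through `x` is Cohen–Macaulay. -/
def FibCM {X S : Scheme.{u}} (f : X ⟶ S) (x : X) : Prop :=
  LocCoh.IsCohenMacaulayLocalRing ((f.fiber (f x)).presheaf.stalk (f.asFiber x))

/-- `FibCM` may be tested on any presentation of the fibre through `x`. -/
theorem fibCM_iff_of_fiber {X S : Scheme.{u}} (f : X ⟶ S) (x : X) (y : S) (w : f.fiber y)
    (hw : f.fiberι y w = x) :
    FibCM f x ↔ LocCoh.IsCohenMacaulayLocalRing ((f.fiber y).presheaf.stalk w) := by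
  have hy : f x = y := by
    have : f.fiberι y w ∈ f ⁻¹' {y} := by rw [← f.range_fiberι]; exact ⟨w, rfl⟩
    rw [hw] at this
    exact this
  subst hy
  have : w = f.asFiber x :=
    (f.fiberι _).isEmbedding.injective (hw.trans (f.fiberι_asFiber x).symm)
  subst this
  rfl

/-- Base change invariance of `FibCM` (no flatness needed). -/
theorem fibCM_iff_of_isPullback {X Y X' Y' : Scheme.{u}} {f : X ⟶ Y} {f' : X' ⟶ Y'}
    {g' : X' ⟶ X} {g : Y' ⟶ Y} (hc : IsPullback g' f' f g) [LocallyOfFiniteType f]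
    (x' : X') : FibCM f' x' ↔ FibCM f (g' x') := by
  have h1 := Groth.Agent.Lib.Helper51.isCM_fiber_stalk_iff_of_lft hc (f' x') (f'.asFiber x')
  have hι := Groth.Agent.Lib.Helper51.fiberMapOfIsPullback_fiberι hc (f' x') (f'.asFiber x')
  rw [f'.fiberι_asFiber] at hι
  rw [fibCM_iff_of_fiber f (g' x') (g (f' x')) _ hι]
  exact h1

/-- `FibCM` is insensitive to a monomorphism on the target. -/
theorem fibCM_comp_mono_iff {X Y Z : Scheme.{u}} (f : X ⟶ Y) (i : Y ⟶ Z) [Mono i]
    [LocallyOfFiniteType (f ≫ i)] (x : X) : FibCM f x ↔ FibCM (f ≫ i) x := by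
  have hc : IsPullback (𝟙 X) f (f ≫ i) i := by
    refine ⟨⟨by rw [Category.id_comp]⟩, ⟨PullbackCone.IsLimit.mk _ (fun s => s.fst) ?_ ?_ ?_⟩⟩
    · intro s; exact Category.comp_id _
    · intro s
      rw [← cancel_mono i, Category.assoc]
      exact s.condition
    · intro s m h1 _
      rw [← h1]; exact (Category.comp_id _).symm
  exact fibCM_iff_of_isPullback hc x

open Groth.Agent.Lib.Helper67.FiberStalk Groth.Agent.Lib.Helper67.FiberTower in
/-- `FibCM` is insensitive to an open immersion on the source. -/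
theorem fibCM_openImmersion_comp_iff {U X S : Scheme.{u}} (j : U ⟶ X) [IsOpenImmersion j]
    (f : X ⟶ S) [LocallyOfFiniteType f] (u : U) : FibCM (j ≫ f) u ↔ FibCM f (j u) := by
  have e1 : FibCM (j ≫ f) u ↔ LocCoh.IsCohenMacaulayLocalRing (Q (j ≫ f) u) :=
    isCM_fiberStalk_iff (j ≫ f) u
  have e2 : FibCM f (j u) ↔ LocCoh.IsCohenMacaulayLocalRing (Q f (j u)) :=
    isCM_fiberStalk_iff f (j u)
  have hfl : (j.stalkMap u).hom.Flat := (isCMAt_of_isOpenImmersion j u).1
  have hj : LocCoh.IsCohenMacaulayLocalRing (Q j u) :=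
    (isCM_fiberStalk_iff j u).mp (isCMAt_of_isOpenImmersion j u).2
  haveI hN1 : IsNoetherianRing (Q f (j u)) :=
    isNoetherianRing_Q f (j u)
      (LocallyOfFiniteType.isLocallyNoetherian (f.fiberToSpecResidueField (f (j u))))
  haveI hN2 : IsNoetherianRing (Q (j ≫ f) u) :=
    isNoetherianRing_Q (j ≫ f) u
      (LocallyOfFiniteType.isLocallyNoetherian ((j ≫ f).fiberToSpecResidueField ((j ≫ f) u)))
  haveI : IsNoetherianRing
      (U.presheaf.stalk u ⧸ IB (f.stalkMap (j u)).hom (j.stalkMap u).hom) :=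
    isNoetherianRing_of_ringEquiv _ (qCompEquiv j f u)
  have h := isCM_tower_iff (f.stalkMap (j u)).hom (j.stalkMap u).hom hfl
  rw [e1, e2]
  constructor
  · intro h1
    exact (h.mp (Groth.Agent.Lib.Helper56.isCohenMacaulayLocalRing_of_ringEquiv
      (qCompEquiv j f u) h1)).1
  · intro h1
    exact Groth.Agent.Lib.Helper56.isCohenMacaulayLocalRing_of_ringEquiv (qCompEquiv j f u).symm
      (h.mpr ⟨h1, hj⟩)

/-- Noetherian case: the locus where the fibre is Cohen–Macaulay is constructible. -/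
theorem isConstructible_setOf_fibCM_noeth {X₀ S₀ : Scheme.{u}} [IsNoetherian S₀] (u : X₀ ⟶ S₀)
    [LocallyOfFiniteType u] [QuasiCompact u] : IsConstructible {x : X₀ | FibCM u x} := by
  haveI : IsNoetherian X₀ := by
    have h1 : IsLocallyNoetherian X₀ := LocallyOfFiniteType.isLocallyNoetherian u
    have h2 : CompactSpace X₀ := QuasiCompact.compactSpace_of_compactSpace u
    exact { }
  apply Groth.Agent.Lib.Helper78.ConsNoeth.isConstructible_of_forall_integral
  intro Z i _ _ _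
  set η := genericPoint Z with hη
  set σ := u (i η) with hσ
  obtain ⟨T, j, hj, hT, hr⟩ :=
    Groth.Agent.Lib.Helper21.IntegralSub.exists_integral_closedImmersion (closure {σ})
      isClosed_closure isIrreducible_singleton.closure
  set p₁ := pullback.fst u j with hp₁
  set p₂ := pullback.snd u j with hp₂
  haveI : LocallyOfFiniteType p₂ := by rw [hp₂]; infer_instance
  haveI : QuasiCompact p₂ := by rw [hp₂]; infer_instance
  obtain ⟨T', hT'dense, hfl, hlfp⟩ := Groth.Agent.Lib.Helper55.GR.generic_flatness_reduced p₂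
  have hopen : IsOpen {x' : ↥(p₂ ⁻¹ᵁ T') | MoreMor.IsCMAt (p₂ ∣_ T') x'} :=
    isOpen_setOf_isCMAt_fp (p₂ ∣_ T')
  set W'' : Set ↥(pullback u j) :=
    (p₂ ⁻¹ᵁ T').ι '' {x' : ↥(p₂ ⁻¹ᵁ T') | MoreMor.IsCMAt (p₂ ∣_ T') x'} with hW''
  have hW''open : IsOpen W'' := (p₂ ⁻¹ᵁ T').ι.isOpenEmbedding.isOpenMap _ hopen
  have hsq1 : IsPullback (p₂ ⁻¹ᵁ T').ι (p₂ ∣_ T') p₂ T'.ι := (isPullback_morphismRestrict p₂ T').flip
  have hsq2 : IsPullback p₁ p₂ u j := IsPullback.of_hasPullback u j
  have hW''mem : ∀ x'' : ↥(pullback u j), x'' ∈ W'' ↔ p₂ x'' ∈ T' ∧ FibCM u (p₁ x'') := by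
    intro x''
    constructor
    · rintro ⟨x', hx', rfl⟩
      refine ⟨x'.2, ?_⟩
      rw [← fibCM_iff_of_isPullback hsq2, ← fibCM_iff_of_isPullback hsq1]
      exact hx'.2
    · rintro ⟨h1, h2⟩
      refine ⟨⟨x'', h1⟩, ?_, rfl⟩
      refine ⟨Flat.stalkMap _ _, ?_⟩
      have := (fibCM_iff_of_isPullback hsq1 ⟨x'', h1⟩).mpr
        ((fibCM_iff_of_isPullback hsq2 x'').mpr h2)
      exact this
  obtain ⟨O, hO, hOT'⟩ := Groth.Agent.Lib.Helper78.ConsNoeth.exists_open_preimage_eq j T'.2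
  obtain ⟨O₂, hO₂, hO₂W⟩ := Groth.Agent.Lib.Helper78.ConsNoeth.exists_open_preimage_eq p₁ hW''open
  have hmemT' : ∀ τ : T, τ ∈ T' ↔ j τ ∈ O := fun τ => by
    have : τ ∈ j.base ⁻¹' O ↔ τ ∈ (T' : Set T) := by rw [hOT']; exact Iff.rfl
    exact this.symm
  set V₀ : Set Z := (i ≫ u) ⁻¹' O with hV₀
  have hV₀open : IsOpen V₀ := hO.preimage (i ≫ u).continuous
  -- the generic point lies in `V₀`
  have hηV₀ : η ∈ V₀ := by
    obtain ⟨τ, hτ⟩ : (T' : Set T).Nonempty := hT'dense.nonempty
    have h1 : j τ ∈ closure {σ} := by rw [← hr]; exact ⟨τ, rfl⟩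
    have h2 : σ ⤳ j τ := specializes_iff_mem_closure.mpr h1
    have h3 : σ ∈ O := h2.mem_open hO ((hmemT' τ).mp hτ)
    exact h3
  -- points of `V₀` lift to the pullback over `T'`
  have hlift : ∀ z ∈ V₀, ∃ x'' : ↥(pullback u j), p₁ x'' = i z ∧ p₂ x'' ∈ T' := by
    intro z hz
    have h1 : η ⤳ z := genericPoint_specializes z
    have h2 : σ ⤳ u (i z) := (h1.map i.continuous).map u.continuous
    have h3 : u (i z) ∈ Set.range j := by
      rw [hr]; exact specializes_iff_mem_closure.mp h2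
    obtain ⟨τ, hτ⟩ := h3
    obtain ⟨x'', hx1, hx2⟩ := Scheme.Pullback.exists_preimage_pullback (f := u) (g := j) (i z) τ
      hτ.symm
    refine ⟨x'', hx1, ?_⟩
    rw [hx2, hmemT', hτ]
    exact hz
  have hkey : ∀ z ∈ V₀, (FibCM u (i z) ↔ i z ∈ O₂) := by
    intro z hz
    obtain ⟨x'', hx1, hx2⟩ := hlift z hz
    have h1 : x'' ∈ W'' ↔ p₁ x'' ∈ O₂ := by
      have : x'' ∈ p₁.base ⁻¹' O₂ ↔ x'' ∈ W'' := by rw [hO₂W]
      exact this.symm
    rw [← hx1, ← h1, hW''mem]
    exact ⟨fun h => ⟨hx2, h⟩, fun h => h.2⟩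
  set G : Set Z := V₀ ∩ i ⁻¹' O₂ with hG
  have hGopen : IsOpen G := hV₀open.inter (hO₂.preimage i.continuous)
  by_cases hGne : G.Nonempty
  · left
    obtain ⟨z, hz⟩ := hGne
    refine ⟨z, mem_interior.mpr ⟨G, ?_, hGopen, hz⟩⟩
    rintro w ⟨hw1, hw2⟩
    exact (hkey w hw1).mpr hw2
  · right
    refine ⟨η, mem_interior.mpr ⟨V₀, ?_, hV₀open, hηV₀⟩⟩
    intro w hw hwE
    exact hGne ⟨w, hw, (hkey w hw).mp hwE⟩

/-- Affine base, finite presentation: the locus where the fibre is Cohen–Macaulay is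
constructible. -/
theorem isConstructible_setOf_fibCM_of_isAffine {X S : Scheme.{u}} [IsAffine S] (f : X ⟶ S)
    [LocallyOfFinitePresentation f] [QuasiCompact f] [QuasiSeparated f] :
    IsConstructible {x : X | FibCM f x} := by
  obtain ⟨S₀, X₀, Y₀, u₀, v₀, h, eX, eY, _, _, _, _, _, hX, hY⟩ :=
    Groth.Agent.Lib.Helper78.ConsPair.exists_noeth_model f f
  have : {x : X | FibCM f x} = eX ⁻¹' {x | FibCM u₀ x} := by
    ext x
    exact fibCM_iff_of_isPullback hX x
  rw [this]
  exact eX.isConstructible_preimage (isConstructible_setOf_fibCM_noeth u₀)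

end Groth.Agent.Lib.Helper73
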