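import Groth.Agent.Lib.Helper73.DimFormula.CMFlat.FibrewiseCons
import Groth.Agent.Lib.Helper19.Sm.SmoothFiberPointwise
import Groth.Agent.Lib.Helper19.Sm.SmoothDescent
import Groth.Agent.Lib.Helper51.CMAtBC

/-!
# The locus where the fibre is smooth is a fibrewise property (helper73)

* `FibSm f x`: the fibre of `f` through `x` is smooth at `x` over the residue field.
* `fibrewiseProp_fibSm : FibrewiseProp FibSm`.
* `fiberMapOfComp`, `isPullback_fiberMapOfComp`: comparison of fibres for a composite `j ≫ f`.
-/

set_option autoImplicit false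
universe u
open AlgebraicGeometry CategoryTheory CategoryTheory.Limits Topology

namespace Groth.Agent.Lib.Helper73

/-- The fibre of `f` through `x` is smooth at `x` over the residue field. -/
def FibSm ⦃X S : Scheme.{u}⦄ (f : X ⟶ S) (x : X) : Prop :=
  ((f.fiberToSpecResidueField (f x)).stalkMap (f.asFiber x)).hom.FormallySmooth

instance lfp_fiberToSpecResidueField {X S : Scheme.{u}} (f : X ⟶ S) [LocallyOfFiniteType f]
    (s : S) : LocallyOfFinitePresentation (f.fiberToSpecResidueField s) := by
  rw [LocallyOfFinitePresentation.iff_locallyOfFiniteType]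
  show LocallyOfFiniteType (pullback.snd f (S.fromSpecResidueField s))
  infer_instance

theorem fibSm_iff_of_fiber {X S : Scheme.{u}} (f : X ⟶ S) [LocallyOfFiniteType f] (x : X) (y : S)
    (w : f.fiber y) (hw : f.fiberι y w = x) :
    FibSm f x ↔ w ∈ (f.fiberToSpecResidueField y).smoothLocus := by
  have hy : f x = y := by
    have : f.fiberι y w ∈ f ⁻¹' {y} := by rw [← f.range_fiberι]; exact ⟨w, rfl⟩
    rw [hw] at this
    exact this
  subst hy
  have : w = f.asFiber x :=
    (f.fiberι _).isEmbedding.injective (hw.trans (f.fiberι_asFiber x).symm)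
  subst this
  rfl

theorem fibSm_baseChange {X Y X' Y' : Scheme.{u}} (f : X ⟶ Y) (f' : X' ⟶ Y') (g' : X' ⟶ X)
    (g : Y' ⟶ Y) (hc : IsPullback g' f' f g) [LocallyOfFiniteType f] (x' : X') :
    FibSm f' x' ↔ FibSm f (g' x') := by
  haveI : LocallyOfFiniteType f' := MorphismProperty.of_isPullback (P := @LocallyOfFiniteType) hc
    inferInstance
  have hP := Groth.Agent.Lib.Helper51.isPullback_fiberMapOfIsPullback hc (f' x')
  have hι := Groth.Agent.Lib.Helper51.fiberMapOfIsPullback_fiberι hc (f' x') (f'.asFiber x')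
  rw [f'.fiberι_asFiber] at hι
  rw [fibSm_iff_of_fiber f (g' x') (g (f' x')) _ hι,
    fibSm_iff_of_fiber f' x' (f' x') (f'.asFiber x') (f'.fiberι_asFiber x')]
  have hflat : Flat (Spec.map (g.residueFieldMap (f' x'))) := by
    rw [HasRingHomProperty.Spec_iff (P := @Flat)]
    algebraize [(g.residueFieldMap (f' x')).hom]
    exact (RingHom.flat_algebraMap_iff).mpr inferInstance
  have h := Groth.Agent.Lib.Helper19.smoothLocus_eq_preimage_of_isPullback
    (f.fiberToSpecResidueField (g (f' x'))) (Spec.map (g.residueFieldMap (f' x')))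
    (f'.fiberToSpecResidueField (f' x')) _ hP (Or.inr hflat)
  rw [h]
  rfl

/-- For a flat morphism locally of finite presentation, the fibre is smooth at `x` iff the
morphism is smooth at `x`. -/
theorem fibSm_iff_mem_smoothLocus {X S : Scheme.{u}} (f : X ⟶ S) [Flat f]
    [LocallyOfFinitePresentation f] (x : X) : FibSm f x ↔ x ∈ f.smoothLocus := by
  rw [fibSm_iff_of_fiber f x (f x) (f.asFiber x) (f.fiberι_asFiber x)]
  constructor
  · intro h
    have := Groth.Agent.Lib.Helper19.mem_smoothLocus_of_flat_of_mem_smoothLocus_fiber f (f x)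
      (f.asFiber x) (Flat.stalkMap f _) h
    rw [f.fiberι_asFiber] at this
    exact this
  · intro h
    have hle := Groth.Agent.Lib.Helper19.preimage_smoothLocus_le_of_isPullback f
      (S.fromSpecResidueField (f x)) (f.fiberToSpecResidueField (f x)) (f.fiberι (f x))
      (IsPullback.of_hasPullback f (S.fromSpecResidueField (f x)))
    apply hle
    show f.fiberι (f x) (f.asFiber x) ∈ f.smoothLocus
    rw [f.fiberι_asFiber]
    exact h

/-- The comparison of fibres induced by a morphism on the source. -/
noncomputable def fiberMapOfComp {U X S : Scheme.{u}} (j : U ⟶ X) (f : X ⟶ S) (s : S) :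
    (j ≫ f).fiber s ⟶ f.fiber s :=
  pullback.map (j ≫ f) (S.fromSpecResidueField s) f (S.fromSpecResidueField s) j (𝟙 _) (𝟙 _)
    (by rw [Category.comp_id]) (by rw [Category.comp_id, Category.id_comp])

lemma fiberMapOfComp_fiberι {U X S : Scheme.{u}} (j : U ⟶ X) (f : X ⟶ S) (s : S) :
    fiberMapOfComp j f s ≫ f.fiberι s = (j ≫ f).fiberι s ≫ j := pullback.lift_fst _ _ _

lemma fiberMapOfComp_toSpec {U X S : Scheme.{u}} (j : U ⟶ X) (f : X ⟶ S) (s : S) :
    fiberMapOfComp j f s ≫ f.fiberToSpecResidueField s = (j ≫ f).fiberToSpecResidueField s := by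
  exact (pullback.lift_snd _ _ _).trans (Category.comp_id _)

lemma isPullback_fiberMapOfComp {U X S : Scheme.{u}} (j : U ⟶ X) (f : X ⟶ S) (s : S) :
    IsPullback (fiberMapOfComp j f s) ((j ≫ f).fiberι s) (f.fiberι s) j := by
  have hright : IsPullback (f.fiberToSpecResidueField s) (f.fiberι s)
      (S.fromSpecResidueField s) f := (IsPullback.of_hasPullback f (S.fromSpecResidueField s)).flip
  have houter : IsPullback (fiberMapOfComp j f s ≫ f.fiberToSpecResidueField s)
      ((j ≫ f).fiberι s) (S.fromSpecResidueField s) (j ≫ f) := by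
    rw [fiberMapOfComp_toSpec]
    exact (IsPullback.of_hasPullback (j ≫ f) (S.fromSpecResidueField s)).flip
  exact IsPullback.of_right houter (fiberMapOfComp_fiberι j f s) hright

theorem fibSm_openImmersion {U X S : Scheme.{u}} (j : U ⟶ X) (f : X ⟶ S) [IsOpenImmersion j]
    [LocallyOfFiniteType f] (u : U) : FibSm (j ≫ f) u ↔ FibSm f (j u) := by
  set s := (j ≫ f) u with hs
  set m := fiberMapOfComp j f s with hm
  haveI : IsOpenImmersion m :=
    MorphismProperty.of_isPullback (P := @IsOpenImmersion) (isPullback_fiberMapOfComp j f s).flip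
      inferInstance
  have hpt : f.fiberι s (m ((j ≫ f).asFiber u)) = j u := by
    rw [← Scheme.Hom.comp_apply, fiberMapOfComp_fiberι, Scheme.Hom.comp_apply,
      (j ≫ f).fiberι_asFiber]
  rw [fibSm_iff_of_fiber f (j u) s _ hpt,
    fibSm_iff_of_fiber (j ≫ f) u s ((j ≫ f).asFiber u) ((j ≫ f).fiberι_asFiber u)]
  have h := Scheme.Hom.preimage_smoothLocus_eq m (f.fiberToSpecResidueField s)
  have h2 : (m ≫ f.fiberToSpecResidueField s).smoothLocus =
      ((j ≫ f).fiberToSpecResidueField s).smoothLocus := by
    congr 1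
    exact fiberMapOfComp_toSpec j f s
  rw [← h2, ← h]
  rfl

theorem fibrewiseProp_fibSm : FibrewiseProp FibSm.{u} where
  baseChange := fun _ _ _ _ f f' g' g hc hf x' => by
    haveI := hf
    exact fibSm_baseChange f f' g' g hc x'
  openImmersion := fun _ _ _ j f hj hf u => by
    haveI := hj
    haveI := hf
    exact fibSm_openImmersion j f u
  isOpen := fun _ _ f hfl hlfp => by
    haveI := hfl
    haveI := hlfp
    have : {x | FibSm f x} = (f.smoothLocus : Set _) := by
      ext x
      exact fibSm_iff_mem_smoothLocus f x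
    rw [this]
    exact f.smoothLocus.2

end Groth.Agent.Lib.Helper73
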