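import Groth.Prelude.Def_Grpd
import Groth.Agent.Lib.Helper51.CMAtBC
import Groth.Agent.Lib.Helper95.Grpd
import Groth.Agent.Lib.Helper67.FiberStalk3
import Groth.Agent.Lib.Helper19.Grpd.SmoothHomogeneity
import Groth.Agent.Lib.Helper73.DimFormula.CMFlat.CMLocusFP
import Groth.Agent.Lib.Helper73.DimFormula.CMFlat.FlatFPDim

/-!
# Cohen–Macaulay locus of the source and target of a groupoid scheme (helper73)

* `isCMAt_iff_of_isPullback_of_flat`: base change of `MoreMor.IsCMAt` for flat lft morphisms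
  (via helper51 `isCM_fiber_stalk_iff_of_lft`).
* `grpd_isCMAt_iff`: `Grpd.IsCMAt ↔ MoreMor.IsCMAt`.
* `isCMAt_s_iff`, `isCMAt_t_iff`: translation invariance of the CM locus in a groupoid.
* `exists_isCMAt_fiber`: every fibre of a flat lft morphism meets the CM locus.
-/

set_option autoImplicit false
universe u
open CategoryTheory CategoryTheory.Limits AlgebraicGeometry
open Grpd

namespace Groth.Agent.Lib.Helper73

/-- Base change of Cohen–Macaulayness at a point, for a flat morphism locally of finite type. -/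
theorem isCMAt_iff_of_isPullback_of_flat {X Y X' Y' : Scheme.{u}} {f : X ⟶ Y} {f' : X' ⟶ Y'}
    {g' : X' ⟶ X} {g : Y' ⟶ Y} (hc : IsPullback g' f' f g) [Flat f] [LocallyOfFiniteType f]
    (x' : X') : MoreMor.IsCMAt f' x' ↔ MoreMor.IsCMAt f (g' x') := by
  haveI : Flat f' := MorphismProperty.of_isPullback (P := @Flat) hc inferInstance
  have h1 := Groth.Agent.Lib.Helper51.isCM_fiber_stalk_iff_of_lft hc (f' x') (f'.asFiber x')
  have hι := Groth.Agent.Lib.Helper51.fiberMapOfIsPullback_fiberι hc (f' x') (f'.asFiber x')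
  rw [f'.fiberι_asFiber] at hι
  have h2 := Groth.Agent.Lib.Helper51.isCMAt_iff_of_fiber f (g' x') (g (f' x')) _ hι
  rw [h2]
  constructor
  · intro h
    exact ⟨Flat.stalkMap f _, h1.mp h.2⟩
  · intro h
    exact ⟨Flat.stalkMap f' _, h1.mpr h.2⟩

/-- The two notions of Cohen–Macaulayness at a point agree. -/
theorem grpd_isCMAt_iff {X Y : Scheme.{u}} (f : X ⟶ Y) (x : X) :
    Grpd.IsCMAt f x ↔ MoreMor.IsCMAt f x := by
  rw [Groth.Agent.Lib.Helper67.FiberStalk.isCMAt_iff]
  rfl

end Groth.Agent.Lib.Helper73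

namespace Groth.Agent.Lib.Helper73

/-- Composition with an isomorphism on the source. -/
theorem isCMAt_iso_comp_iff {X X' Y : Scheme.{u}} (i : X' ⟶ X) [IsIso i] (f : X ⟶ Y) [Flat f]
    [LocallyOfFiniteType f] (x' : X') : MoreMor.IsCMAt (i ≫ f) x' ↔ MoreMor.IsCMAt f (i x') := by
  have hc : IsPullback i (i ≫ f) f (𝟙 Y) :=
    IsPullback.of_horiz_isIso ⟨by rw [Category.comp_id]⟩
  exact isCMAt_iff_of_isPullback_of_flat hc x'

section Groupoid

variable {S : Scheme.{u}} (G : Grpd.GroupoidScheme S)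

/-- `r ↦ (e (t r), r)`. -/
noncomputable def grpdLam : G.R ⟶ pullback G.s G.t :=
  pullback.lift (G.t ≫ G.e) (𝟙 G.R) (by rw [Category.assoc, G.e_s, Category.comp_id, Category.id_comp])

lemma grpdLam_fst : grpdLam G ≫ pullback.fst G.s G.t = G.t ≫ G.e := pullback.lift_fst _ _ _

lemma grpdLam_snd : grpdLam G ≫ pullback.snd G.s G.t = 𝟙 G.R := pullback.lift_snd _ _ _

lemma grpdLam_c : grpdLam G ≫ G.c = 𝟙 G.R := by
  have := G.e_comp (𝟙 G.R)
  simp only [Category.id_comp] at this
  exact this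

/-- The source morphism of a groupoid is Cohen–Macaulay at `r` iff it is at `e (t r)`. -/
theorem isCMAt_s_iff [Flat G.s] [LocallyOfFiniteType G.s] (r : G.R) : MoreMor.IsCMAt G.s r ↔ MoreMor.IsCMAt G.s (G.e (G.t r)) := by
  have ha : IsPullback (pullback.fst G.s G.t) (pullback.snd G.s G.t) G.s G.t :=
    IsPullback.of_hasPullback G.s G.t
  have hb := Groth.Agent.Lib.Helper95.isPullback_c_snd (G := G)
  have h1 := isCMAt_iff_of_isPullback_of_flat ha (grpdLam G r)
  have h2 := isCMAt_iff_of_isPullback_of_flat hb (grpdLam G r)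
  have e1 : pullback.fst G.s G.t (grpdLam G r) = G.e (G.t r) := by
    rw [← Scheme.Hom.comp_apply, grpdLam_fst, Scheme.Hom.comp_apply]
  have e2 : G.c (grpdLam G r) = r := by
    rw [← Scheme.Hom.comp_apply, grpdLam_c]; rfl
  rw [e1] at h1
  rw [e2] at h2
  rw [← h1, ← h2]

/-- The target morphism of a groupoid is Cohen–Macaulay at `r` iff the source morphism is at
`e (s r)`. -/
theorem isCMAt_t_iff [Flat G.s] [LocallyOfFiniteType G.s] (r : G.R) :
    MoreMor.IsCMAt G.t r ↔ MoreMor.IsCMAt G.s (G.e (G.s r)) := by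
  have h1 : MoreMor.IsCMAt G.t r ↔ MoreMor.IsCMAt (G.i ≫ G.s) r := by rw [G.i_s]
  rw [h1, isCMAt_iso_comp_iff, isCMAt_s_iff]
  have : G.t (G.i r) = G.s r := by
    rw [← Scheme.Hom.comp_apply, G.i_t]
  rw [this]

/-- Every fibre of a flat morphism locally of finite presentation with a section meets the
Cohen–Macaulay locus. -/
theorem exists_isCMAt_fiber {X Y : Scheme.{u}} (f : X ⟶ Y) [Flat f] [LocallyOfFiniteType f]
    (x : X) : ∃ ξ : X, f ξ = f x ∧ MoreMor.IsCMAt f ξ := by
  obtain ⟨ξ, -, hfξ, hξmax, -⟩ := exists_maximal_fiber_resTrdegNat_eq_fibreDimAt f x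
  exact ⟨ξ, hfξ, isCMAt_of_maximal_fiber f ξ (Flat.stalkMap f ξ) hξmax⟩

end Groupoid

end Groth.Agent.Lib.Helper73
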